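import Mathlib
import Cfsg.Prelude.Def_Transfer

set_option autoImplicit false

namespace Cfsg.Agent.Lib.Helper2

variable {P : Type*} [Group P] [Finite P] {p : ℕ} [Fact p.Prime]

/-- A maximal subgroup of a finite `p`-group is normal. -/
theorem coatom_normal (hP : IsPGroup p P) {M : Subgroup P} (hM : IsCoatom M) : M.Normal := by
  have := hP.isNilpotent
  exact Subgroup.NormalizerCondition.normal_of_coatom M (Group.normalizerCondition_of_isNilpotent (G := P)) hM

/-- A maximal subgroup of a finite `p`-group has index `p`. -/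
theorem coatom_index (hP : IsPGroup p P) {M : Subgroup P} (hM : IsCoatom M) : M.index = p := by
  have hp : p.Prime := Fact.out
  obtain ⟨k, hk⟩ := hP.exists_card_eq
  obtain ⟨m, hm⟩ := (hP.to_subgroup M).exists_card_eq
  have hlt : Nat.card M < Nat.card P := by
    have h1 : Nat.card M ≤ Nat.card P := Subgroup.card_le_card_group M
    rcases lt_or_eq_of_le h1 with h | h
    · exact h
    · exact absurd (Subgroup.card_eq_iff_eq_top M |>.mp h) hM.1
  have hmk : m < k := by
    rw [hk, hm] at hlt
    exact (Nat.pow_lt_pow_iff_right hp.one_lt).mp hlt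
  have hdvd : p ^ (m + 1) ∣ Nat.card P := by
    rw [hk]; exact pow_dvd_pow p hmk
  obtain ⟨K, hK, hMK⟩ := Sylow.exists_subgroup_card_pow_succ hdvd hm
  have hne : M ≠ K := by
    intro h
    rw [← h, hm] at hK
    have := Nat.pow_right_injective hp.two_le hK
    omega
  have hKtop : K = ⊤ := hM.2 K (lt_of_le_of_ne hMK hne)
  have hcardP : Nat.card P = p ^ (m + 1) := by
    rw [← hK, hKtop, Subgroup.card_top]
  have h2 := M.card_mul_index
  rw [hm, hcardP, pow_succ] at h2
  exact Nat.eq_of_mul_eq_mul_left (pow_pos hp.pos m) h2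

omit [Finite P] in
theorem mem_frattini_iff (x : P) : x ∈ frattini P ↔ ∀ M : Subgroup P, IsCoatom M → x ∈ M := by
  simp [frattini, Order.radical, Subgroup.mem_iInf]

/-- In a finite `p`-group the derived subgroup lies in the Frattini subgroup. -/
theorem commutator_le_frattini (hP : IsPGroup p P) : commutator P ≤ frattini P := by
  intro x hx
  rw [mem_frattini_iff]
  intro M hM
  have hn : M.Normal := coatom_normal hP hM
  have hcard : Nat.card (P ⧸ M) = p := by
    rw [← Subgroup.index_eq_card]; exact coatom_index hP hM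
  have hcyc : IsCyclic (P ⧸ M) := isCyclic_of_prime_card hcard
  have hcomm : IsMulCommutative (P ⧸ M) := inferInstance
  exact (Subgroup.Normal.quotient_commutative_iff_commutator_le.mp hcomm) hx

/-- In a finite `p`-group, `p`-th powers lie in the Frattini subgroup. -/
theorem pow_mem_frattini (hP : IsPGroup p P) (x : P) : x ^ p ∈ frattini P := by
  rw [mem_frattini_iff]
  intro M hM
  have hn : M.Normal := coatom_normal hP hM
  have hcard : Nat.card (P ⧸ M) = p := by
    rw [← Subgroup.index_eq_card]; exact coatom_index hP hM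
  have h1 : (QuotientGroup.mk x : P ⧸ M) ^ p = 1 := by
    have := pow_card_eq_one' (G := P ⧸ M) (x := (QuotientGroup.mk x : P ⧸ M))
    rwa [hcard] at this
  rw [← QuotientGroup.mk_pow] at h1
  exact (QuotientGroup.eq_one_iff _).mp h1

end Cfsg.Agent.Lib.Helper2
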