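import Mathlib
import Cfsg.Agent.Lib.Helper2.ESL

/-!
# Extraspecial 2-groups: number of involutions and classification

`E` is a finite group with `Nat.card (center E) = 2` (`hZ`) and central commutators (`hc`).
* `card_and_count`: `|E| = 2 ^ (2 m + 1)` and `#{g | g ^ 2 = 1} = 2 ^ (2 m) ± 2 ^ m`.
* `nonempty_mulEquiv`: two such groups with the same order and the same number of solutions of
  `g ^ 2 = 1` are isomorphic.
-/

set_option linter.unusedSectionVars false

namespace Cfsg.Agent.Lib.Helper2.ES2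

open Subgroup Cfsg.Agent.Lib.Helper2 Cfsg.Agent.Lib.Helper2.ESL
open scoped commutatorElement

universe u v

/-- number of solutions of `g ^ 2 = 1` -/
noncomputable abbrev invCount (E : Type*) [Group E] : ℕ := Nat.card {g : E // g ^ 2 = 1}

theorem invCount_of_card_two {H : Type*} [Group H] [Finite H] (h : Nat.card H = 2) :
    invCount H = 2 := by
  have h2 : ∀ g : H, g ^ 2 = 1 := fun g => by rw [← h]; exact pow_card_eq_one'
  rw [← h]
  exact Nat.card_congr (Equiv.subtypeUnivEquiv h2)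

theorem mulEquiv_mem_center {H H' : Type*} [Group H] [Group H'] (e : H ≃* H') {h : H}
    (hh : h ∈ center H) : e h ∈ center H' := by
  rw [Subgroup.mem_center_iff] at hh ⊢
  intro g'
  have := hh (e.symm g')
  have h2 := congrArg e this
  rwa [map_mul, map_mul, e.apply_symm_apply] at h2

section Basic

variable {E : Type*} [Group E] [Finite E]

theorem central_sq (hZ : Nat.card (center E) = 2) {z : E} (hz : z ∈ center E) : z ^ 2 = 1 := by
  have h := pow_card_eq_one' (G := center E) (x := ⟨z, hz⟩)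
  rw [hZ] at h
  simpa only [Subgroup.coe_pow, Subgroup.coe_one] using congrArg Subtype.val h

theorem central_eq (hZ : Nat.card (center E) = 2) {c₁ c₂ : E} (h1 : c₁ ∈ center E)
    (h1' : c₁ ≠ 1) (h2 : c₂ ∈ center E) (h2' : c₂ ≠ 1) : c₁ = c₂ := by
  obtain ⟨k, hk⟩ := exists_pow_eq_of_mem_center hZ h1 h1' h2
  have hsq := central_sq hZ h1
  rcases Nat.even_or_odd' k with ⟨m, rfl | rfl⟩
  · exfalso; apply h2'; rw [← hk, pow_mul, hsq, one_pow]
  · rw [← hk, pow_succ, pow_mul, hsq, one_pow, one_mul]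

theorem sq_mem_center (hZ : Nat.card (center E) = 2) (hc : ∀ a b : E, ⁅a, b⁆ ∈ center E)
    (g : E) : g ^ 2 ∈ center E := pow_mem_center hZ hc g

theorem sq_eq_one_or (hZ : Nat.card (center E) = 2) (hc : ∀ a b : E, ⁅a, b⁆ ∈ center E)
    {z : E} (hz : z ∈ center E) (hz1 : z ≠ 1) (g : E) : g ^ 2 = 1 ∨ g ^ 2 = z := by
  by_cases h : g ^ 2 = 1
  · exact Or.inl h
  · exact Or.inr (central_eq hZ (sq_mem_center hZ hc g) h hz hz1)

theorem mul_sq (hZ : Nat.card (center E) = 2) (hc : ∀ a b : E, ⁅a, b⁆ ∈ center E)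
    (x y : E) : (x * y) ^ 2 = x ^ 2 * y ^ 2 * ⁅x, y⁆ := by
  have h1 := mul_pow_of_commutator_central x y (hc y x) 2
  have h2 : ⁅y, x⁆ = ⁅x, y⁆ := by
    rw [← commutatorElement_inv]
    have := central_sq hZ (hc x y)
    exact inv_eq_of_mul_eq_one_right (by rw [← pow_two]; exact this)
  rw [h1, h2]
  simp

/-- counting the solutions of `g ^ 2 = 1` in a coset `u B` -/
theorem count_coset (hZ : Nat.card (center E) = 2) (hc : ∀ a b : E, ⁅a, b⁆ ∈ center E)
    (B : Subgroup E) {z : E} (hz : z ∈ center E) (hz1 : z ≠ 1) (u : E)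
    (hu : ∀ b ∈ B, Commute u b) :
    (u ^ 2 = 1 → Nat.card {b : B // (u * (b : E)) ^ 2 = 1} = invCount B) ∧
    (u ^ 2 = z → Nat.card {b : B // (u * (b : E)) ^ 2 = 1} + invCount B = Nat.card B) := by
  classical
  constructor
  · intro h
    apply Nat.card_congr
    apply Equiv.subtypeEquivRight
    intro b
    rw [(hu b b.2).mul_pow, h, one_mul, ← Subgroup.coe_pow, OneMemClass.coe_eq_one]
  · intro h
    have key : ∀ b : B, (u * (b : E)) ^ 2 = 1 ↔ ¬ (b ^ 2 = 1) := by
      intro b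
      rw [(hu b b.2).mul_pow, h]
      have hb := sq_eq_one_or hZ hc hz hz1 (b : E)
      have hzz := central_sq hZ hz
      constructor
      · intro h1 h2
        have h3 : (b : E) ^ 2 = 1 := by rw [← Subgroup.coe_pow, h2, Subgroup.coe_one]
        rw [h3, mul_one] at h1
        exact hz1 h1
      · intro h1
        rcases hb with hb | hb
        · exfalso; apply h1; apply Subtype.ext; rw [Subgroup.coe_pow, hb, Subgroup.coe_one]
        · rw [hb, ← pow_two, hzz]
    rw [Nat.card_congr (Equiv.subtypeEquivRight key), add_comm, ← Nat.card_sum,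
      Nat.card_congr (Equiv.sumCompl _)]

theorem invCount_eq_sum (hZ : Nat.card (center E) = 2) (hc : ∀ a b : E, ⁅a, b⁆ ∈ center E)
    (x y : E) (hxy : ⁅x, y⁆ ≠ 1) :
    invCount E = ∑ i : Fin 2, ∑ j : Fin 2,
      Nat.card {b : pairKer hc x y // (x ^ (i : ℕ) * y ^ (j : ℕ) * (b : E)) ^ 2 = 1} := by
  let Ψ : (Fin 2 × Fin 2) × pairKer hc x y → E :=
    fun t => x ^ (t.1.1 : ℕ) * y ^ (t.1.2 : ℕ) * (t.2 : E)
  have hsurj : Function.Surjective Ψ := by
    intro g
    obtain ⟨i, j, b, hb, rfl⟩ := exists_decomp hZ hc x y hxy g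
    have hxj : x ^ j = x ^ (j % 2) * (x ^ 2) ^ (j / 2) := by
      conv_lhs => rw [← Nat.mod_add_div j 2]
      rw [pow_add, pow_mul]
    have hyi : y ^ i = y ^ (i % 2) * (y ^ 2) ^ (i / 2) := by
      conv_lhs => rw [← Nat.mod_add_div i 2]
      rw [pow_add, pow_mul]
    have hc1 : (x ^ 2) ^ (j / 2) ∈ center E := pow_mem (sq_mem_center hZ hc x) _
    have hc2 : (y ^ 2) ^ (i / 2) ∈ center E := pow_mem (sq_mem_center hZ hc y) _
    have hb' : (x ^ 2) ^ (j / 2) * (y ^ 2) ^ (i / 2) * b ∈ pairKer hc x y :=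
      mul_mem (mul_mem (center_le_pairKer hc x y hc1) (center_le_pairKer hc x y hc2)) hb
    refine ⟨((⟨j % 2, Nat.mod_lt _ (by norm_num)⟩, ⟨i % 2, Nat.mod_lt _ (by norm_num)⟩),
      ⟨_, hb'⟩), ?_⟩
    show x ^ (j % 2) * y ^ (i % 2) * ((x ^ 2) ^ (j / 2) * (y ^ 2) ^ (i / 2) * b) =
      x ^ j * y ^ i * b
    have e : (x ^ 2) ^ (j / 2) * y ^ (i % 2) = y ^ (i % 2) * (x ^ 2) ^ (j / 2) :=
      (Subgroup.mem_center_iff.mp hc1 _).symm
    rw [hxj, hyi]
    calc x ^ (j % 2) * y ^ (i % 2) * ((x ^ 2) ^ (j / 2) * (y ^ 2) ^ (i / 2) * b)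
        = x ^ (j % 2) * (y ^ (i % 2) * (x ^ 2) ^ (j / 2)) * (y ^ 2) ^ (i / 2) * b := by
          simp only [mul_assoc]
      _ = x ^ (j % 2) * ((x ^ 2) ^ (j / 2) * y ^ (i % 2)) * (y ^ 2) ^ (i / 2) * b := by rw [e]
      _ = x ^ (j % 2) * (x ^ 2) ^ (j / 2) * (y ^ (i % 2) * (y ^ 2) ^ (i / 2)) * b := by
          simp only [mul_assoc]
  have hcard : Nat.card ((Fin 2 × Fin 2) × pairKer hc x y) ≤ Nat.card E := by
    rw [Nat.card_prod, Nat.card_prod, Nat.card_fin, ← card_pairKer hZ hc x y hxy]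
    exact le_of_eq (by ring)
  have hbij : Function.Bijective Ψ := hsurj.bijective_of_nat_card_le hcard
  let e : (Fin 2 × Fin 2) × pairKer hc x y ≃ E := Equiv.ofBijective Ψ hbij
  have h1 : invCount E = Nat.card {t : (Fin 2 × Fin 2) × pairKer hc x y // (Ψ t) ^ 2 = 1} :=
    (Nat.card_congr (e.subtypeEquiv (p := fun t => (Ψ t) ^ 2 = 1) (q := fun g => g ^ 2 = 1)
      (fun t => Iff.rfl))).symm
  rw [h1]
  have h2 := Nat.card_congr (Equiv.subtypeProdEquivSigmaSubtype
    (fun (s : Fin 2 × Fin 2) (b : pairKer hc x y) =>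
      (x ^ (s.1 : ℕ) * y ^ (s.2 : ℕ) * (b : E)) ^ 2 = 1))
  rw [Nat.card_sigma, Fintype.sum_prod_type] at h2
  exact h2

end Basic

section Pairs

variable {E : Type*} [Group E] [Finite E]

theorem commute_pow_mul_pow_pairKer (hc : ∀ a b : E, ⁅a, b⁆ ∈ center E) (x y : E) (i j : ℕ) :
    ∀ b ∈ pairKer hc x y, Commute (x ^ i * y ^ j) b := by
  intro b hb
  have hx : x ∈ closure ({x, y} : Set E) := subset_closure (by simp)
  have hy : y ∈ closure ({x, y} : Set E) := subset_closure (by simp)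
  exact commute_closure_pairKer hc x y _ (mul_mem (pow_mem hx i) (pow_mem hy j)) b hb

/-- dihedral-type pair: `|E| = 4 |B|` and `i(E) = 2 i(B) + |B|`. -/
theorem count_D8 (hZ : Nat.card (center E) = 2) (hc : ∀ a b : E, ⁅a, b⁆ ∈ center E)
    (x y : E) (hx : x ^ 2 = 1) (hy : y ^ 2 = 1) (hxy : ⁅x, y⁆ ≠ 1) :
    invCount E = 2 * invCount (pairKer hc x y) + Nat.card (pairKer hc x y) := by
  have hsum := invCount_eq_sum hZ hc x y hxy
  rw [Fin.sum_univ_two, Fin.sum_univ_two, Fin.sum_univ_two] at hsum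
  have hz := hc x y
  have h00 := (count_coset hZ hc (pairKer hc x y) hz hxy
    (x ^ ((0 : Fin 2) : ℕ) * y ^ ((0 : Fin 2) : ℕ))
    (commute_pow_mul_pow_pairKer hc x y _ _)).1 (by simp)
  have h01 := (count_coset hZ hc (pairKer hc x y) hz hxy
    (x ^ ((0 : Fin 2) : ℕ) * y ^ ((1 : Fin 2) : ℕ))
    (commute_pow_mul_pow_pairKer hc x y _ _)).1 (by simpa using hy)
  have h10 := (count_coset hZ hc (pairKer hc x y) hz hxy
    (x ^ ((1 : Fin 2) : ℕ) * y ^ ((0 : Fin 2) : ℕ))
    (commute_pow_mul_pow_pairKer hc x y _ _)).1 (by simpa using hx)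
  have h11 := (count_coset hZ hc (pairKer hc x y) hz hxy
    (x ^ ((1 : Fin 2) : ℕ) * y ^ ((1 : Fin 2) : ℕ))
    (commute_pow_mul_pow_pairKer hc x y _ _)).2 (by
      simp only [Fin.val_one, pow_one]
      rw [mul_sq hZ hc, hx, hy, one_mul, one_mul])
  rw [h00, h01, h10] at hsum
  omega

/-- quaternion-type pair: `i(E) + 2 i(B) = 3 |B|`. -/
theorem count_Q8 (hZ : Nat.card (center E) = 2) (hc : ∀ a b : E, ⁅a, b⁆ ∈ center E)
    (x y : E) (hxy : ⁅x, y⁆ ≠ 1) (hx : x ^ 2 = ⁅x, y⁆) (hy : y ^ 2 = ⁅x, y⁆) :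
    invCount E + 2 * invCount (pairKer hc x y) = 3 * Nat.card (pairKer hc x y) := by
  have hsum := invCount_eq_sum hZ hc x y hxy
  rw [Fin.sum_univ_two, Fin.sum_univ_two, Fin.sum_univ_two] at hsum
  have hz := hc x y
  have h00 := (count_coset hZ hc (pairKer hc x y) hz hxy
    (x ^ ((0 : Fin 2) : ℕ) * y ^ ((0 : Fin 2) : ℕ))
    (commute_pow_mul_pow_pairKer hc x y _ _)).1 (by simp)
  have h01 := (count_coset hZ hc (pairKer hc x y) hz hxy
    (x ^ ((0 : Fin 2) : ℕ) * y ^ ((1 : Fin 2) : ℕ))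
    (commute_pow_mul_pow_pairKer hc x y _ _)).2 (by simpa using hy)
  have h10 := (count_coset hZ hc (pairKer hc x y) hz hxy
    (x ^ ((1 : Fin 2) : ℕ) * y ^ ((0 : Fin 2) : ℕ))
    (commute_pow_mul_pow_pairKer hc x y _ _)).2 (by simpa using hx)
  have h11 := (count_coset hZ hc (pairKer hc x y) hz hxy
    (x ^ ((1 : Fin 2) : ℕ) * y ^ ((1 : Fin 2) : ℕ))
    (commute_pow_mul_pow_pairKer hc x y _ _)).2 (by
      simp only [Fin.val_one, pow_one]
      rw [mul_sq hZ hc, hx, hy, ← pow_two, central_sq hZ hz, one_mul])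
  rw [h00] at hsum
  omega

theorem exists_D8_of_noncentral (hZ : Nat.card (center E) = 2)
    (hc : ∀ a b : E, ⁅a, b⁆ ∈ center E) (t : E) (ht : t ^ 2 = 1) (htc : t ∉ center E) :
    ∃ x y : E, x ^ 2 = 1 ∧ y ^ 2 = 1 ∧ ⁅x, y⁆ ≠ 1 := by
  rw [Subgroup.mem_center_iff] at htc
  simp only [not_forall] at htc
  obtain ⟨w, hw⟩ := htc
  have htw : ⁅t, w⁆ ≠ 1 := by
    intro h; exact hw (commutatorElement_eq_one_iff_commute.mp h).eq.symm
  rcases sq_eq_one_or hZ hc (hc t w) htw w with h | h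
  · exact ⟨t, w, ht, h, htw⟩
  · refine ⟨t, t * w, ht, ?_, ?_⟩
    · rw [mul_sq hZ hc, ht, h, one_mul, ← pow_two, central_sq hZ (hc t w)]
    · intro h2
      have h3 : Commute t (t * w) := commutatorElement_eq_one_iff_commute.mp h2
      apply hw
      have h4 : t * (t * w) = t * w * t := h3.eq
      rw [mul_assoc] at h4
      exact (mul_left_cancel h4).symm

theorem exists_pair (hZ : Nat.card (center E) = 2) (hc : ∀ a b : E, ⁅a, b⁆ ∈ center E)
    (hnab : ∃ a b : E, ⁅a, b⁆ ≠ 1) :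
    (∃ x y : E, x ^ 2 = 1 ∧ y ^ 2 = 1 ∧ ⁅x, y⁆ ≠ 1) ∨
    (∃ x y : E, ⁅x, y⁆ ≠ 1 ∧ x ^ 2 = ⁅x, y⁆ ∧ y ^ 2 = ⁅x, y⁆) := by
  by_cases h : ∃ t : E, t ^ 2 = 1 ∧ t ∉ center E
  · obtain ⟨t, ht, htc⟩ := h
    exact Or.inl (exists_D8_of_noncentral hZ hc t ht htc)
  · right
    have h' : ∀ t : E, t ^ 2 = 1 → t ∈ center E := by
      intro t ht; by_contra hc'; exact h ⟨t, ht, hc'⟩
    obtain ⟨a, b, hab⟩ := hnab
    have ha : a ∉ center E := by
      intro ha
      apply hab
      rw [commutatorElement_eq_one_iff_commute]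
      exact (Subgroup.mem_center_iff.mp ha b).symm
    have hb : b ∉ center E := by
      intro hb
      apply hab
      rw [commutatorElement_eq_one_iff_commute]
      exact (Subgroup.mem_center_iff.mp hb a)
    refine ⟨a, b, hab, ?_, ?_⟩
    · rcases sq_eq_one_or hZ hc (hc a b) hab a with h1 | h1
      · exact absurd (h' a h1) ha
      · exact h1
    · rcases sq_eq_one_or hZ hc (hc a b) hab b with h1 | h1
      · exact absurd (h' b h1) hb
      · exact h1

theorem exists_D8_of_Q8 (hZ : Nat.card (center E) = 2) (hc : ∀ a b : E, ⁅a, b⁆ ∈ center E)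
    (x y : E) (hxy : ⁅x, y⁆ ≠ 1) (hx : x ^ 2 = ⁅x, y⁆) (u : E) (hu : u ∈ pairKer hc x y)
    (huc : u ∉ center E) : ∃ x y : E, x ^ 2 = 1 ∧ y ^ 2 = 1 ∧ ⁅x, y⁆ ≠ 1 := by
  rw [mem_pairKer] at hu
  rcases sq_eq_one_or hZ hc (hc x y) hxy u with h | h
  · exact exists_D8_of_noncentral hZ hc u h huc
  · apply exists_D8_of_noncentral hZ hc (x * u)
    · rw [hu.1.symm.mul_pow, hx, h, ← pow_two, central_sq hZ (hc x y)]
    · intro hcen
      apply hxy
      rw [commutatorElement_eq_one_iff_commute]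
      have h1 : Commute (x * u) y := (Subgroup.mem_center_iff.mp hcen y).symm
      have h2 : Commute (x * u * u⁻¹) y := h1.mul_left hu.2.inv_left
      rwa [mul_inv_cancel_right] at h2

theorem card_eq_eight_of_pairKer_le (hZ : Nat.card (center E) = 2)
    (hc : ∀ a b : E, ⁅a, b⁆ ∈ center E) (x y : E) (hxy : ⁅x, y⁆ ≠ 1)
    (h : ∀ u ∈ pairKer hc x y, u ∈ center E) :
    Nat.card E = 8 ∧ Nat.card (pairKer hc x y) = 2 := by
  have h1 : pairKer hc x y = center E := le_antisymm h (center_le_pairKer hc x y)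
  have h2 : Nat.card (pairKer hc x y) = 2 := by rw [h1, hZ]
  have h3 := card_pairKer hZ hc x y hxy
  rw [h2] at h3
  exact ⟨by omega, h2⟩

theorem card_eq_two_of_abelian (hZ : Nat.card (center E) = 2) (hab : ∀ a b : E, ⁅a, b⁆ = 1) :
    Nat.card E = 2 := by
  have htop : center E = ⊤ := by
    rw [eq_top_iff]; intro g _; rw [Subgroup.mem_center_iff]; intro h
    exact (commutatorElement_eq_one_iff_commute.mp (hab h g)).eq
  rw [← hZ, htop, Subgroup.card_top]

theorem abelian_of_card_eq_two (hZ : Nat.card (center E) = 2) (h : Nat.card E = 2) (a b : E) :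
    ⁅a, b⁆ = 1 := by
  have htop : center E = ⊤ := Subgroup.eq_top_of_card_eq _ (by rw [hZ, h])
  rw [commutatorElement_eq_one_iff_commute]
  have hb : b ∈ center E := htop ▸ Subgroup.mem_top b
  exact (Subgroup.mem_center_iff.mp hb a)

end Pairs

/-- Order and number of involutions of an extraspecial 2-group. -/
theorem card_and_count : ∀ (n : ℕ) (E : Type u) [Group E] [Finite E], Nat.card E ≤ n →
    Nat.card (center E) = 2 → (∀ a b : E, ⁅a, b⁆ ∈ center E) →
    ∃ m : ℕ, Nat.card E = 2 ^ (2 * m + 1) ∧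
      (invCount E = 2 ^ (2 * m) + 2 ^ m ∨ invCount E + 2 ^ m = 2 ^ (2 * m)) ∧
      ((∃ a b : E, ⁅a, b⁆ ≠ 1) → 1 ≤ m) := by
  intro n
  induction n with
  | zero =>
    intro E _ _ h
    have := Nat.card_pos (α := E)
    omega
  | succ n ih =>
    intro E _ _ hcard hZ hc
    by_cases hab : ∃ a b : E, ⁅a, b⁆ ≠ 1
    · have step : ∀ x y : E, ⁅x, y⁆ ≠ 1 → ∃ m' : ℕ,
          Nat.card (pairKer hc x y) = 2 ^ (2 * m' + 1) ∧
          (invCount (pairKer hc x y) = 2 ^ (2 * m') + 2 ^ m' ∨
            invCount (pairKer hc x y) + 2 ^ m' = 2 ^ (2 * m')) := by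
        intro x y hxy
        have h1 := card_pairKer hZ hc x y hxy
        have hlt : Nat.card (pairKer hc x y) ≤ n := by
          have := Nat.card_pos (α := pairKer hc x y)
          omega
        obtain ⟨m', h2, h3, -⟩ := ih (pairKer hc x y) hlt (card_center_pairKer hZ hc x y hxy)
          (commutator_mem_center_pairKer hZ hc x y hxy)
        exact ⟨m', h2, h3⟩
      rcases exists_pair hZ hc hab with ⟨x, y, hx, hy, hxy⟩ | ⟨x, y, hxy, hx, hy⟩
      · obtain ⟨m', h2, h3⟩ := step x y hxy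
        have h1 := card_pairKer hZ hc x y hxy
        have h4 := count_D8 hZ hc x y hx hy hxy
        refine ⟨m' + 1, ?_, ?_, fun _ => by omega⟩
        · rw [← h1, h2]; ring
        · have e1 : 2 ^ (2 * (m' + 1)) = 4 * 2 ^ (2 * m') := by ring
          have e2 : 2 ^ (m' + 1) = 2 * 2 ^ m' := by ring
          have e3 : 2 ^ (2 * m' + 1) = 2 * 2 ^ (2 * m') := by ring
          rw [e1, e2]
          rw [h2, e3] at h4
          rcases h3 with h3 | h3
          · left; omega
          · right; omega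
      · obtain ⟨m', h2, h3⟩ := step x y hxy
        have h1 := card_pairKer hZ hc x y hxy
        have h4 := count_Q8 hZ hc x y hxy hx hy
        refine ⟨m' + 1, ?_, ?_, fun _ => by omega⟩
        · rw [← h1, h2]; ring
        · have e1 : 2 ^ (2 * (m' + 1)) = 4 * 2 ^ (2 * m') := by ring
          have e2 : 2 ^ (m' + 1) = 2 * 2 ^ m' := by ring
          have e3 : 2 ^ (2 * m' + 1) = 2 * 2 ^ (2 * m') := by ring
          rw [e1, e2]
          rw [h2, e3] at h4
          rcases h3 with h3 | h3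
          · right; omega
          · left; omega
    · have hab' : ∀ a b : E, ⁅a, b⁆ = 1 := by
        intro a b; by_contra h; exact hab ⟨a, b, h⟩
      have hE : Nat.card E = 2 := card_eq_two_of_abelian hZ hab'
      refine ⟨0, by simpa using hE, Or.inl ?_, fun h => absurd h hab⟩
      rw [invCount_of_card_two hE]; norm_num

theorem compat_aux {E : Type u} {E' : Type v} [Group E] [Group E'] [Finite E] [Finite E']
    (hZ' : Nat.card (center E') = 2)
    (A B : Subgroup E) (A' B' : Subgroup E')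
    (hAB : A ⊓ B ≤ center E)
    (hA : ∀ k : A, (k : E) ∈ center E → k ∈ center A)
    (hB : ∀ k : B, (k : E) ∈ center E → k ∈ center B)
    (hA' : ∀ k : A', k ∈ center A' → (k : E') ∈ center E')
    (hB' : ∀ k : B', k ∈ center B' → (k : E') ∈ center E')
    (α : A ≃* A') (β : B ≃* B') (a : A) (b : B) (h : (a : E) = b) : (α a : E') = β b := by
  have hcen : (a : E) ∈ center E := hAB ⟨a.2, by rw [h]; exact b.2⟩
  have ha : a ∈ center A := hA a hcen
  have hb : b ∈ center B := hB b (by rw [← h]; exact hcen)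
  have ha' : (α a : E') ∈ center E' := hA' _ (mulEquiv_mem_center α ha)
  have hb' : (β b : E') ∈ center E' := hB' _ (mulEquiv_mem_center β hb)
  by_cases h1 : a = 1
  · have h2 : b = 1 := by
      apply Subtype.ext
      rw [← h, h1]; rfl
    rw [h1, h2, map_one, map_one]; rfl
  · have h2 : b ≠ 1 := by
      intro h2
      apply h1
      apply Subtype.ext
      rw [h, h2]; rfl
    have h3 : (α a : E') ≠ 1 := by
      intro h3
      apply h1
      have h4 : α a = 1 := Subtype.ext h3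
      exact (MulEquiv.map_eq_one_iff α).mp h4
    have h4 : (β b : E') ≠ 1 := by
      intro h3
      apply h2
      have h4 : β b = 1 := Subtype.ext h3
      exact (MulEquiv.map_eq_one_iff β).mp h4
    exact central_eq hZ' ha' h3 hb' h4

theorem glue {E : Type u} {E' : Type v} [Group E] [Group E'] [Finite E] [Finite E']
    (hZ : Nat.card (center E) = 2) (hc : ∀ a b : E, ⁅a, b⁆ ∈ center E)
    (hZ' : Nat.card (center E') = 2) (hc' : ∀ a b : E', ⁅a, b⁆ ∈ center E')
    (x y : E) (x' y' : E') (hxy : ⁅x, y⁆ ≠ 1) (hxy' : ⁅x', y'⁆ ≠ 1)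
    (a b : ℕ) (hx : x ^ 2 = ⁅x, y⁆ ^ a) (hx' : x' ^ 2 = ⁅x', y'⁆ ^ a)
    (hy : y ^ 2 = ⁅x, y⁆ ^ b) (hy' : y' ^ 2 = ⁅x', y'⁆ ^ b)
    (β : pairKer hc x y ≃* pairKer hc' x' y') : Nonempty (E ≃* E') := by
  have hzc : ∀ g : E, Commute ⁅x, y⁆ g := fun g => (Subgroup.mem_center_iff.mp (hc x y) g).symm
  have hzc' : ∀ g : E', Commute ⁅x', y'⁆ g :=
    fun g => (Subgroup.mem_center_iff.mp (hc' x' y') g).symm
  obtain ⟨α, -⟩ := exists_mulEquiv_closure_pair 2 (by norm_num) x y x' y' (hzc x) (hzc y)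
    (hzc' x') (hzc' y') (central_sq hZ (hc x y)) (central_sq hZ' (hc' x' y')) a b hx hx' hy hy'
    (by rw [card_closure_pair hZ hc x y hxy]) (by rw [card_closure_pair hZ' hc' x' y' hxy'])
  have hcompat : ∀ (u : closure ({x, y} : Set E)) (v : pairKer hc x y),
      (u : E) = v ↔ (α u : E') = β v := by
    intro u v
    constructor
    · exact compat_aux hZ' _ _ _ _ (closure_inf_pairKer_le_center hZ hc x y hxy)
        (fun k hk => (mem_center_closure_iff hZ hc x y hxy k).mpr hk)
        (fun k hk => (mem_center_pairKer_iff hZ hc x y hxy k).mpr hk)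
        (fun k hk => (mem_center_closure_iff hZ' hc' x' y' hxy' k).mp hk)
        (fun k hk => (mem_center_pairKer_iff hZ' hc' x' y' hxy' k).mp hk) α β u v
    · intro h
      have h2 := compat_aux hZ _ _ _ _ (closure_inf_pairKer_le_center hZ' hc' x' y' hxy')
        (fun k hk => (mem_center_closure_iff hZ' hc' x' y' hxy' k).mpr hk)
        (fun k hk => (mem_center_pairKer_iff hZ' hc' x' y' hxy' k).mpr hk)
        (fun k hk => (mem_center_closure_iff hZ hc x y hxy k).mp hk)
        (fun k hk => (mem_center_pairKer_iff hZ hc x y hxy k).mp hk) α.symm β.symm (α u) (β v) h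
      simpa using h2
  obtain ⟨φ, -⟩ := exists_mulEquiv_of_central_product _ _ _ _ (commute_closure_pairKer hc x y)
    (commute_closure_pairKer hc' x' y') (exists_mul_closure_pairKer hZ hc x y hxy)
    (exists_mul_closure_pairKer hZ' hc' x' y' hxy') α β hcompat
  exact ⟨φ⟩

/-- Extraspecial 2-groups with the same order and the same number of involutions are
isomorphic. -/
theorem nonempty_mulEquiv : ∀ (n : ℕ) (E : Type u) (E' : Type v) [Group E] [Group E']
    [Finite E] [Finite E'], Nat.card E ≤ n →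
    Nat.card (center E) = 2 → (∀ a b : E, ⁅a, b⁆ ∈ center E) →
    Nat.card (center E') = 2 → (∀ a b : E', ⁅a, b⁆ ∈ center E') →
    Nat.card E = Nat.card E' → invCount E = invCount E' → Nonempty (E ≃* E') := by
  intro n
  induction n with
  | zero =>
    intro E E' _ _ _ _ h
    have := Nat.card_pos (α := E)
    omega
  | succ n ih =>
    intro E E' _ _ _ _ hcard hZ hc hZ' hc' hEE' hinv
    by_cases hab : ∃ a b : E, ⁅a, b⁆ ≠ 1
    · have hab' : ∃ a b : E', ⁅a, b⁆ ≠ 1 := by
        by_contra h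
        have h2 : Nat.card E' = 2 := card_eq_two_of_abelian hZ'
          (by intro a b; by_contra h3; exact h ⟨a, b, h3⟩)
        have h3 : Nat.card E = 2 := by rw [hEE', h2]
        obtain ⟨a, b, h4⟩ := hab
        exact h4 (abelian_of_card_eq_two hZ h3 a b)
      have caseD : ∀ (x y : E) (x' y' : E'), x ^ 2 = 1 → y ^ 2 = 1 → ⁅x, y⁆ ≠ 1 →
          x' ^ 2 = 1 → y' ^ 2 = 1 → ⁅x', y'⁆ ≠ 1 → Nonempty (E ≃* E') := by
        intro x y x' y' hx hy hxy hx' hy' hxy'
        have h1 := card_pairKer hZ hc x y hxy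
        have h1' := card_pairKer hZ' hc' x' y' hxy'
        have h2 := count_D8 hZ hc x y hx hy hxy
        have h2' := count_D8 hZ' hc' x' y' hx' hy' hxy'
        have hpos := Nat.card_pos (α := pairKer hc x y)
        obtain ⟨β⟩ := ih (pairKer hc x y) (pairKer hc' x' y') (by omega)
          (card_center_pairKer hZ hc x y hxy) (commutator_mem_center_pairKer hZ hc x y hxy)
          (card_center_pairKer hZ' hc' x' y' hxy')
          (commutator_mem_center_pairKer hZ' hc' x' y' hxy') (by omega) (by omega)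
        exact glue hZ hc hZ' hc' x y x' y' hxy hxy' 0 0 (by simpa using hx) (by simpa using hx')
          (by simpa using hy) (by simpa using hy') β
      have caseQ : ∀ (x y : E) (x' y' : E'), ⁅x, y⁆ ≠ 1 → x ^ 2 = ⁅x, y⁆ → y ^ 2 = ⁅x, y⁆ →
          ⁅x', y'⁆ ≠ 1 → x' ^ 2 = ⁅x', y'⁆ → y' ^ 2 = ⁅x', y'⁆ → Nonempty (E ≃* E') := by
        intro x y x' y' hxy hx hy hxy' hx' hy'
        have h1 := card_pairKer hZ hc x y hxy
        have h1' := card_pairKer hZ' hc' x' y' hxy'
        have h2 := count_Q8 hZ hc x y hxy hx hy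
        have h2' := count_Q8 hZ' hc' x' y' hxy' hx' hy'
        have hpos := Nat.card_pos (α := pairKer hc x y)
        obtain ⟨β⟩ := ih (pairKer hc x y) (pairKer hc' x' y') (by omega)
          (card_center_pairKer hZ hc x y hxy) (commutator_mem_center_pairKer hZ hc x y hxy)
          (card_center_pairKer hZ' hc' x' y' hxy')
          (commutator_mem_center_pairKer hZ' hc' x' y' hxy') (by omega) (by omega)
        exact glue hZ hc hZ' hc' x y x' y' hxy hxy' 1 1 (by simpa using hx) (by simpa using hx')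
          (by simpa using hy) (by simpa using hy') β
      rcases exists_pair hZ hc hab with ⟨x, y, hx, hy, hxy⟩ | ⟨x, y, hxy, hx, hy⟩
      · rcases exists_pair hZ' hc' hab' with ⟨x', y', hx', hy', hxy'⟩ | ⟨x', y', hxy', hx', hy'⟩
        · exact caseD x y x' y' hx hy hxy hx' hy' hxy'
        · by_cases hsmall : ∀ u ∈ pairKer hc' x' y', u ∈ center E'
          · exfalso
            obtain ⟨h8, hB2⟩ := card_eq_eight_of_pairKer_le hZ' hc' x' y' hxy' hsmall
            have hq := count_Q8 hZ' hc' x' y' hxy' hx' hy'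
            rw [invCount_of_card_two hB2, hB2] at hq
            have h1 := card_pairKer hZ hc x y hxy
            have hB2' : Nat.card (pairKer hc x y) = 2 := by omega
            have hd := count_D8 hZ hc x y hx hy hxy
            rw [invCount_of_card_two hB2', hB2'] at hd
            omega
          · have hex : ∃ u ∈ pairKer hc' x' y', u ∉ center E' := by
              by_contra h
              exact hsmall (fun u hu => by by_contra h2; exact h ⟨u, hu, h2⟩)
            obtain ⟨u, hu, huc⟩ := hex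
            obtain ⟨x'', y'', hx'', hy'', hxy''⟩ :=
              exists_D8_of_Q8 hZ' hc' x' y' hxy' hx' u hu huc
            exact caseD x y x'' y'' hx hy hxy hx'' hy'' hxy''
      · rcases exists_pair hZ' hc' hab' with ⟨x', y', hx', hy', hxy'⟩ | ⟨x', y', hxy', hx', hy'⟩
        · by_cases hsmall : ∀ u ∈ pairKer hc x y, u ∈ center E
          · exfalso
            obtain ⟨h8, hB2⟩ := card_eq_eight_of_pairKer_le hZ hc x y hxy hsmall
            have hq := count_Q8 hZ hc x y hxy hx hy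
            rw [invCount_of_card_two hB2, hB2] at hq
            have h1 := card_pairKer hZ' hc' x' y' hxy'
            have hB2' : Nat.card (pairKer hc' x' y') = 2 := by omega
            have hd := count_D8 hZ' hc' x' y' hx' hy' hxy'
            rw [invCount_of_card_two hB2', hB2'] at hd
            omega
          · have hex : ∃ u ∈ pairKer hc x y, u ∉ center E := by
              by_contra h
              exact hsmall (fun u hu => by by_contra h2; exact h ⟨u, hu, h2⟩)
            obtain ⟨u, hu, huc⟩ := hex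
            obtain ⟨x'', y'', hx'', hy'', hxy''⟩ := exists_D8_of_Q8 hZ hc x y hxy hx u hu huc
            exact caseD x'' y'' x' y' hx'' hy'' hxy'' hx' hy' hxy'
        · exact caseQ x y x' y' hxy hx hy hxy' hx' hy'
    · have hab' : ∀ a b : E, ⁅a, b⁆ = 1 := by
        intro a b; by_contra h; exact hab ⟨a, b, h⟩
      have h2 : Nat.card E = 2 := card_eq_two_of_abelian hZ hab'
      have h2' : Nat.card E' = 2 := by rw [← hEE', h2]
      exact ⟨mulEquivOfPrimeCardEq (p := 2) h2 h2'⟩

end Cfsg.Agent.Lib.Helper2.ES2
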