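import Mathlib
import Cfsg.Prelude.Def_Transfer
import Cfsg.Agent.Lib.Helper2.ES2

/-!
# Extraspecial 2-groups in the sense of `Cfsg.IsExtraspecial`

Bridges `Cfsg.IsExtraspecial 2 E` to the hypotheses of `Cfsg.Agent.Lib.Helper2.ES2`.
-/

namespace Cfsg.Agent.Lib.Helper2.ES2

open Subgroup
open scoped commutatorElement

universe u v

theorem of_isExtraspecial {E : Type*} [Group E] [Finite E] {p : ℕ} [Fact p.Prime]
    (hE : Cfsg.IsExtraspecial p E) :
    Nat.card (center E) = p ∧ (∀ a b : E, ⁅a, b⁆ ∈ center E) ∧ ∃ a b : E, ⁅a, b⁆ ≠ 1 := by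
  obtain ⟨⟨_, _, hcomm⟩, hcard⟩ := hE
  refine ⟨hcard, ?_, ?_⟩
  · intro a b
    rw [← hcomm, commutator_def]
    exact Subgroup.commutator_mem_commutator (Subgroup.mem_top a) (Subgroup.mem_top b)
  · by_contra h
    have hab : ∀ a b : E, ⁅a, b⁆ = 1 := by
      intro a b; by_contra h2; exact h ⟨a, b, h2⟩
    have hbot : commutator E = ⊥ := by
      rw [commutator_def, Subgroup.commutator_eq_bot_iff_le_centralizer]
      intro x _
      rw [Subgroup.mem_centralizer_iff]
      intro y _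
      exact (commutatorElement_eq_one_iff_commute.mp (hab y x)).eq
    rw [hbot] at hcomm
    rw [← hcomm] at hcard
    have hp : p.Prime := Fact.out
    simp at hcard
    exact hp.one_lt.ne hcard

/-- An extraspecial 2-group has order `2 ^ (2 m + 1)`, `m ≥ 1`, and `2 ^ (2 m) ± 2 ^ m`
solutions of `g ^ 2 = 1`. -/
theorem extraspecial_card_count {E : Type u} [Group E] [Finite E]
    (hE : Cfsg.IsExtraspecial 2 E) :
    ∃ m : ℕ, 1 ≤ m ∧ Nat.card E = 2 ^ (2 * m + 1) ∧
      (invCount E = 2 ^ (2 * m) + 2 ^ m ∨ invCount E + 2 ^ m = 2 ^ (2 * m)) := by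
  obtain ⟨hZ, hc, hnab⟩ := of_isExtraspecial hE
  obtain ⟨m, h1, h2, h3⟩ := card_and_count (Nat.card E) E le_rfl hZ hc
  exact ⟨m, h3 hnab, h1, h2⟩

/-- Extraspecial 2-groups of the same order with the same number of solutions of `g ^ 2 = 1`
are isomorphic. -/
theorem extraspecial_iso {E : Type u} {E' : Type v} [Group E] [Group E'] [Finite E] [Finite E']
    (hE : Cfsg.IsExtraspecial 2 E) (hE' : Cfsg.IsExtraspecial 2 E')
    (hcard : Nat.card E = Nat.card E') (hinv : invCount E = invCount E') :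
    Nonempty (E ≃* E') := by
  obtain ⟨hZ, hc, -⟩ := of_isExtraspecial hE
  obtain ⟨hZ', hc', -⟩ := of_isExtraspecial hE'
  exact nonempty_mulEquiv (Nat.card E) E E' le_rfl hZ hc hZ' hc' hcard hinv

end Cfsg.Agent.Lib.Helper2.ES2
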