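import Mathlib
import Cfsg.Prelude.Def_Transfer
import Cfsg.Agent.Lib.Helper2.ES2Cfsg

/-!
# An extraspecial subgroup `Q` of a group `S`: facts stated inside `S`
-/

namespace Cfsg.Agent.Lib.Helper2.ESL

open Subgroup
open scoped commutatorElement

variable {S : Type*} [Group S]

theorem center_map_subtype (Q : Subgroup S) :
    (center Q).map Q.subtype = Q ⊓ centralizer (Q : Set S) := by
  ext u
  simp only [Subgroup.mem_map, Subgroup.mem_center_iff, Subgroup.mem_inf,
    Subgroup.mem_centralizer_iff, Subgroup.coe_subtype]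
  constructor
  · rintro ⟨z, hz, rfl⟩
    refine ⟨z.2, ?_⟩
    intro y hy
    have := hz ⟨y, hy⟩
    simpa using congrArg Subtype.val this
  · rintro ⟨huE, hu⟩
    refine ⟨⟨u, huE⟩, ?_, rfl⟩
    intro y
    exact Subtype.ext (hu y y.2)

theorem mem_center_sub_iff (Q : Subgroup S) (z : Q) :
    z ∈ center Q ↔ (z : S) ∈ Q ⊓ centralizer (Q : Set S) := by
  rw [← center_map_subtype]
  constructor
  · intro h; exact Subgroup.mem_map_of_mem _ h
  · rintro ⟨w, hw, hwz⟩
    have : w = z := Subtype.ext hwz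
    rwa [← this]

/-- The three basic facts about an extraspecial subgroup, inside the ambient group. -/
theorem sub_facts [Finite S] {p : ℕ} [Fact p.Prime] (Q : Subgroup S)
    (hQ : Cfsg.IsExtraspecial p ↥Q) :
    Nat.card ↥(Q ⊓ centralizer (Q : Set S)) = p ∧
    (∀ a ∈ Q, ∀ b ∈ Q, ⁅a, b⁆ ∈ Q ⊓ centralizer (Q : Set S)) ∧
    ¬ (Q ≤ centralizer (Q : Set S)) := by
  obtain ⟨hZ, hc, a, b, hab⟩ := Cfsg.Agent.Lib.Helper2.ES2.of_isExtraspecial hQ
  refine ⟨?_, ?_, ?_⟩
  · rw [← center_map_subtype, Subgroup.card_map_of_injective Q.subtype_injective]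
    exact hZ
  · intro x hx y hy
    have h1 := hc ⟨x, hx⟩ ⟨y, hy⟩
    rw [mem_center_sub_iff] at h1
    exact h1
  · intro hle
    apply hab
    rw [commutatorElement_eq_one_iff_commute]
    exact Subtype.ext (Subgroup.mem_centralizer_iff.mp (hle b.2) a a.2)

end Cfsg.Agent.Lib.Helper2.ESL
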