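import Mathlib
import Cfsg.Agent.Lib.Helper2.ESLExtra
import Cfsg.Agent.Lib.Helper2.ESLSub

/-!
# Abelian subgroups of index `p`
-/

namespace Cfsg.Agent.Lib.Helper2.ESL

open Subgroup
open scoped commutatorElement

section
variable {S : Type*} [Group S]

/-- `g ↦ ⁅g, q⁆` as a homomorphism to a central subgroup `Z` containing all these commutators. -/
def commHomInto (Z : Subgroup S) (hZ : Z ≤ center S) (q : S) (hq : ∀ g : S, ⁅g, q⁆ ∈ Z) :
    S →* Z where
  toFun g := ⟨⁅g, q⁆, hq g⟩
  map_one' := Subtype.ext (by simp [commutatorElement_def])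
  map_mul' g h := by
    apply Subtype.ext
    have h2 := Subgroup.mem_center_iff.mp (hZ (hq h))
    show ⁅g * h, q⁆ = ⁅g, q⁆ * ⁅h, q⁆
    calc ⁅g * h, q⁆ = g * ⁅h, q⁆ * (q * g⁻¹ * q⁻¹) := by
          simp only [commutatorElement_def]; group
      _ = ⁅h, q⁆ * g * (q * g⁻¹ * q⁻¹) := by rw [h2 g]
      _ = ⁅h, q⁆ * ⁅g, q⁆ := by simp only [commutatorElement_def]; group
      _ = ⁅g, q⁆ * ⁅h, q⁆ := by rw [h2 ⁅g, q⁆]

theorem mem_ker_commHomInto (Z : Subgroup S) (hZ : Z ≤ center S) (q : S)
    (hq : ∀ g : S, ⁅g, q⁆ ∈ Z) (g : S) :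
    g ∈ (commHomInto Z hZ q hq).ker ↔ Commute g q := by
  rw [MonoidHom.mem_ker, Subtype.ext_iff]
  show ⁅g, q⁆ = 1 ↔ _
  exact commutatorElement_eq_one_iff_commute

end

variable {E : Type*} [Group E] [Finite E] {p : ℕ} [Fact p.Prime]

/-- A group with centre of order `p` and central commutators that has an abelian subgroup of
index `p` has order at most `p ^ 3`. -/
theorem card_le_of_abelian_index (hZ : Nat.card (center E) = p)
    (hc : ∀ a b : E, ⁅a, b⁆ ∈ center E) (B : Subgroup E)
    (hB : ∀ a ∈ B, ∀ b ∈ B, a * b = b * a) (hBi : B.index = p) :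
    Nat.card E ≤ p ^ 3 := by
  have hp : p.Prime := Fact.out
  have hco : IsCoatom B := isCoatom_of_index_prime hp hBi
  obtain ⟨x, hx⟩ : ∃ x : E, x ∉ B := by
    by_contra h
    exact hco.1 (eq_top_iff.mpr fun g _ => by_contra fun hg => h ⟨g, hg⟩)
  let f : B →* center E := (commHomL hc x).comp B.subtype
  have hker : Nat.card f.ker ≤ p := by
    rw [← hZ]
    have hmem : ∀ b : f.ker, ((b : B) : E) ∈ center E := by
      rintro ⟨b, hb⟩
      have hb' : Commute (b : E) x := by
        have : commHomL hc x (b : E) = 1 := hb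
        exact (commHomL_eq_one_iff hc x b).mp this
      have hlt : B < centralizer ({(b : E)} : Set E) := by
        refine lt_of_le_of_ne ?_ ?_
        · intro c hc'
          rw [Subgroup.mem_centralizer_iff]
          intro y hy
          rw [Set.mem_singleton_iff] at hy
          subst hy
          exact hB _ b.2 _ hc'
        · intro heq
          apply hx
          rw [heq, Subgroup.mem_centralizer_iff]
          intro y hy
          rw [Set.mem_singleton_iff] at hy
          subst hy
          exact hb'.eq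
      have htop := hco.2 _ hlt
      rw [Subgroup.mem_center_iff]
      intro g
      have hg : g ∈ centralizer ({(b : E)} : Set E) := by rw [htop]; trivial
      exact (Subgroup.mem_centralizer_iff.mp hg _ rfl).symm
    refine Nat.card_le_card_of_injective (fun b : f.ker => (⟨((b : B) : E), hmem b⟩ : center E)) ?_
    intro b c hbc
    have : ((b : B) : E) = ((c : B) : E) := congrArg (fun z : center E => (z : E)) hbc
    exact Subtype.ext (Subtype.ext this)
  have hrange : f.ker.index ≤ p := by
    rw [Subgroup.index_ker, ← hZ]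
    exact Subgroup.card_le_card_group _
  have h1 : Nat.card B = Nat.card f.ker * f.ker.index := (Subgroup.card_mul_index f.ker).symm
  have h2 : Nat.card E = Nat.card B * p := by rw [← hBi, Subgroup.card_mul_index]
  rw [h2, h1]
  calc Nat.card f.ker * f.ker.index * p ≤ p * p * p :=
        Nat.mul_le_mul_right _ (Nat.mul_le_mul hker hrange)
    _ = p ^ 3 := by ring

end Cfsg.Agent.Lib.Helper2.ESL
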