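import Mathlib
import Cfsg.Prelude.Def_Transfer

set_option autoImplicit false

namespace Cfsg.Agent.Lib.Helper2

variable {G : Type*} [Group G]

open scoped IsMulCommutative in
/-- An abelian Hall subgroup meets `G' ∩ Z(G)` trivially. -/
theorem hall_inf_commutator_inf_center [Finite G] (H : Subgroup G) (hc : IsMulCommutative H)
    (hHall : Nat.Coprime (Nat.card H) H.index) :
    H ⊓ commutator G ⊓ Subgroup.center G = ⊥ := by
  rw [eq_bot_iff]
  rintro z ⟨⟨hzH, hzc⟩, hzZ⟩
  rw [Subgroup.mem_bot]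
  have key : ∀ (k : ℕ) (g₀ : G), g₀⁻¹ * z ^ k * g₀ ∈ H → g₀⁻¹ * z ^ k * g₀ = z ^ k := by
    intro k g₀ _
    have h1 : z ^ k ∈ Subgroup.center G := Subgroup.pow_mem _ hzZ k
    rw [Subgroup.mem_center_iff] at h1
    rw [mul_assoc, ← h1 g₀, inv_mul_cancel_left]
  have h1 := MonoidHom.transfer_eq_pow (MonoidHom.id H) z key
  have h2 : MonoidHom.transfer (MonoidHom.id H) z = 1 :=
    Abelianization.commutator_subset_ker (MonoidHom.transfer (MonoidHom.id H)) hzc
  rw [h2] at h1
  have h3 : z ^ H.index = 1 := by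
    have := congrArg Subtype.val h1
    simpa using this.symm
  have h4 : z ^ Nat.card H = 1 := by
    have e : ((⟨z, hzH⟩ : H) ^ Nat.card H : H) = 1 := pow_card_eq_one'
    have e2 := congrArg Subtype.val e
    simpa only [Subgroup.coe_pow, Subgroup.coe_one] using e2
  have h5 := pow_gcd_eq_one.mpr ⟨h4, h3⟩
  rwa [hHall, pow_one] at h5

end Cfsg.Agent.Lib.Helper2
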