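import Mathlib
import Cfsg.Agent.Lib.Helper34.Offender

/-!
# Offenders in characteristic two: the `S₃`-configuration, for a solvable (not necessarily abelian)
odd-order subgroup `F ≤ Aut(V)` normalized by the offender

Generalizes `Cfsg.Agent.Lib.Helper34.exists_config_of_offender` (whose proof is reused: the body of
`exists_config_of_min_offender_eigen` is that of `Helper34.exists_config_of_min_offender`).
-/

set_option autoImplicit false

namespace Cfsg.Agent.Lib.Helper2.Off

open Subgroup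
open Cfsg.Agent.Lib.Helper34 Cfsg.Agent.Lib.Helper54
open scoped commutatorElement

section Eigen

variable {Γ : Type*} [Group Γ]

/-- An element of odd order whose square is trivial is trivial. -/
theorem eq_one_of_mul_self_of_odd {c : Γ} (hodd : Odd (orderOf c)) (h : c * c = 1) : c = 1 := by
  have h2 : orderOf c ∣ 2 := orderOf_dvd_of_pow_eq_one (by rw [pow_two]; exact h)
  rcases (Nat.dvd_prime Nat.prime_two).mp h2 with h1 | h1
  · exact orderOf_eq_one_iff.mp h1
  · rw [h1] at hodd
    exact absurd hodd (by decide)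

/-- Simultaneous "diagonalization" without commutativity of `F`: an element of prime order in the
solvable odd-order group `F` which every element of the elementary abelian `2`-group `E`
centralizes or inverts, and which some element of `E` inverts. -/
theorem exists_eigen_element_of_solvable [Finite Γ] (F E : Subgroup Γ)
    (hFodd : Odd (Nat.card F)) (hFsol : Group.IsSolvable F)
    (hEc : ∀ a ∈ E, ∀ b ∈ E, a * b = b * a) (hE2 : ∀ e ∈ E, e * e = 1)
    (hnc : ∃ e ∈ E, ∃ y ∈ F, e * y ≠ y * e)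
    (hEF : ∀ e ∈ E, ∀ y ∈ F, e * y * e⁻¹ ∈ F) :
    ∃ y ∈ F, y ≠ 1 ∧ (orderOf y).Prime ∧ (∀ f ∈ E, f * y * f⁻¹ = y ∨ f * y * f⁻¹ = y⁻¹) ∧
      ∃ e ∈ E, e * y * e⁻¹ = y⁻¹ := by
  have hoddF : ∀ x ∈ F, Odd (orderOf x) := fun x hx =>
    Odd.of_dvd_nat hFodd (Subgroup.orderOf_dvd_natCard F hx)
  have key : ∀ n : ℕ, ∀ F' : Subgroup Γ, F' ≤ F → Nat.card F' = n →
      (∀ e ∈ E, ∀ y ∈ F', e * y * e⁻¹ ∈ F') → (∃ e ∈ E, ∃ y ∈ F', e * y ≠ y * e) →
      ∃ y ∈ F, y ≠ 1 ∧ (orderOf y).Prime ∧ (∀ f ∈ E, f * y * f⁻¹ = y ∨ f * y * f⁻¹ = y⁻¹) ∧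
        ∃ e ∈ E, e * y * e⁻¹ = y⁻¹ := by
    intro n
    induction n using Nat.strong_induction_on with
    | _ n ih =>
    intro F' hF'F hn hinv hnc'
    by_cases hsub : ∃ F₁ : Subgroup Γ, F₁ < F' ∧ (∀ e ∈ E, ∀ y ∈ F₁, e * y * e⁻¹ ∈ F₁) ∧
        (∃ e ∈ E, ∃ y ∈ F₁, e * y ≠ y * e)
    · obtain ⟨F₁, hlt, hinv₁, hnc₁⟩ := hsub
      exact ih (Nat.card F₁) (by rw [← hn]; exact card_lt_card_of_lt hlt) F₁
        (hlt.le.trans hF'F) rfl hinv₁ hnc₁
    · push Not at hsub
      -- every proper `E`-invariant subgroup of `F'` is centralized by `E`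
      have hmin : ∀ F₁ : Subgroup Γ, F₁ < F' → (∀ e ∈ E, ∀ y ∈ F₁, e * y * e⁻¹ ∈ F₁) →
          ∀ e ∈ E, ∀ y ∈ F₁, e * y = y * e := hsub
      have hodd' : ∀ x ∈ F', Odd (orderOf x) := fun x hx => hoddF x (hF'F hx)
      obtain ⟨e, he, x, hx, hex⟩ := hnc'
      have hinvE : ∀ h ∈ E, h⁻¹ = h := fun h hh => inv_eq_of_mul_eq_one_left (hE2 h hh)
      -- the derived subgroup
      have hD'le : ⁅F', F'⁆ ≤ F' := by
        rw [Subgroup.commutator_le]
        intro a ha b hb
        rw [commutatorElement_def]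
        exact F'.mul_mem (F'.mul_mem (F'.mul_mem ha hb) (F'.inv_mem ha)) (F'.inv_mem hb)
      have hD'ne : ⁅F', F'⁆ ≠ F' := by
        intro heq
        have hsolF' : Group.IsSolvable F' :=
          Group.isSolvable_of_isSolvable_injective (f := Subgroup.inclusion hF'F)
            (Subgroup.inclusion_injective hF'F)
        have hntF' : Nontrivial F' := by
          refine ⟨⟨⟨x, hx⟩, 1, ?_⟩⟩
          intro h1
          have h2 : x = 1 := congrArg Subtype.val h1
          apply hex
          rw [h2, mul_one, one_mul]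
        have hlt := Group.IsSolvable.commutator_lt_top_of_nontrivial F'
        have hmap : (commutator F').map F'.subtype = ⁅F', F'⁆ := by
          rw [_root_.commutator_def, Subgroup.map_commutator, ← MonoidHom.range_eq_map,
            Subgroup.range_subtype]
        have htop : commutator F' = ⊤ := by
          apply Subgroup.map_injective F'.subtype_injective
          rw [hmap, heq, ← MonoidHom.range_eq_map, Subgroup.range_subtype]
        exact hlt.ne htop
      have hD'inv : ∀ h ∈ E, ∀ z ∈ ⁅F', F'⁆, h * z * h⁻¹ ∈ ⁅F', F'⁆ := by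
        intro h hh z hz
        have h1 : (⁅F', F'⁆).map (MulAut.conj h).toMonoidHom ≤ ⁅F', F'⁆ := by
          rw [Subgroup.map_commutator]
          have h2 : F'.map (MulAut.conj h).toMonoidHom ≤ F' := by
            rintro _ ⟨y, hy, rfl⟩
            exact hinv h hh y hy
          exact Subgroup.commutator_mono h2 h2
        exact h1 ⟨z, hz, rfl⟩
      have hD'fix : ∀ h ∈ E, ∀ z ∈ ⁅F', F'⁆, h * z = z * h :=
        hmin _ (lt_of_le_of_ne hD'le hD'ne) hD'inv
      -- centralizers of non-centralizing elements are fixed by `E`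
      have hcentfix : ∀ h ∈ E, (¬ ∀ z ∈ F', h * z = z * h) →
          ∀ s ∈ F', h * s * h⁻¹ = s → ∀ k ∈ E, k * s = s * k := by
        intro h hh hnot s hs hfix k hk
        have hlt : centSub F' h < F' := by
          refine lt_of_le_of_ne (fun z hz => hz.1) ?_
          intro heq
          apply hnot
          intro z hz
          have hz' : z ∈ centSub F' h := by rw [heq]; exact hz
          have h1 := hz'.2
          calc h * z = (h * z * h⁻¹) * h := by group
            _ = z * h := by rw [h1]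
        have hinvc : ∀ k ∈ E, ∀ z ∈ centSub F' h, k * z * k⁻¹ ∈ centSub F' h := by
          intro k hk z hz
          refine ⟨hinv k hk z hz.1, ?_⟩
          have h1 := hz.2
          have h2 : h * k = k * h := hEc h hh k hk
          calc h * (k * z * k⁻¹) * h⁻¹ = (h * k) * z * (h * k)⁻¹ := by group
            _ = (k * h) * z * (k * h)⁻¹ := by rw [h2]
            _ = k * (h * z * h⁻¹) * k⁻¹ := by group
            _ = k * z * k⁻¹ := by rw [h1]
        exact hmin _ hlt hinvc k hk s ⟨hs, hfix⟩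
      -- `t * h(t)` is fixed by `E`
      have hclaim1 : ∀ h ∈ E, (¬ ∀ z ∈ F', h * z = z * h) → ∀ t ∈ F',
          ∀ k ∈ E, k * (t * (h * t * h⁻¹)) = (t * (h * t * h⁻¹)) * k := by
        intro h hh hnot t ht
        have hht : h * t * h⁻¹ ∈ F' := hinv h hh t ht
        have hs : t * (h * t * h⁻¹) ∈ F' := F'.mul_mem ht hht
        apply hcentfix h hh hnot _ hs
        -- `c = s⁻¹ h(s)` is a commutator
        have hcD : ⁅(h * t * h⁻¹)⁻¹, t⁻¹⁆ ∈ ⁅F', F'⁆ :=
          Subgroup.commutator_mem_commutator (F'.inv_mem hht) (F'.inv_mem ht)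
        have hhs : h * (t * (h * t * h⁻¹)) * h⁻¹ =
            (t * (h * t * h⁻¹)) * ⁅(h * t * h⁻¹)⁻¹, t⁻¹⁆ := by
          have e1 : h * (t * (h * t * h⁻¹)) * h⁻¹ = (h * t * h⁻¹) * ((h * h) * t * (h * h)⁻¹) := by
            group
          rw [e1, hE2 h hh, commutatorElement_def]
          group
        have hcfix := hD'fix h hh _ hcD
        have hcc : ⁅(h * t * h⁻¹)⁻¹, t⁻¹⁆ * ⁅(h * t * h⁻¹)⁻¹, t⁻¹⁆ = 1 := by
          have e2 : h * (h * (t * (h * t * h⁻¹)) * h⁻¹) * h⁻¹ = t * (h * t * h⁻¹) := by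
            have : h * (h * (t * (h * t * h⁻¹)) * h⁻¹) * h⁻¹
                = (h * h) * (t * (h * t * h⁻¹)) * (h * h)⁻¹ := by group
            rw [this, hE2 h hh]; group
          rw [hhs] at e2
          have e3 : h * ((t * (h * t * h⁻¹)) * ⁅(h * t * h⁻¹)⁻¹, t⁻¹⁆) * h⁻¹
              = (h * (t * (h * t * h⁻¹)) * h⁻¹) * (h * ⁅(h * t * h⁻¹)⁻¹, t⁻¹⁆ * h⁻¹) := by group
          rw [e3, hhs, hcfix] at e2
          have e4 : (t * (h * t * h⁻¹)) * ⁅(h * t * h⁻¹)⁻¹, t⁻¹⁆ *
              (⁅(h * t * h⁻¹)⁻¹, t⁻¹⁆ * h * h⁻¹) = (t * (h * t * h⁻¹)) *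
              (⁅(h * t * h⁻¹)⁻¹, t⁻¹⁆ * ⁅(h * t * h⁻¹)⁻¹, t⁻¹⁆) := by group
          rw [e4] at e2
          exact mul_left_cancel (e2.trans (mul_one _).symm)
        have hc1 : ⁅(h * t * h⁻¹)⁻¹, t⁻¹⁆ = 1 :=
          eq_one_of_mul_self_of_odd (hodd' _ (hD'le hcD)) hcc
        rw [hhs, hc1, mul_one]
      have henot : ¬ ∀ z ∈ F', e * z = z * e := fun h => hex (h x hx)
      -- every element of `E` centralizes `F'` or acts on it as `e` does
      have hclaim2 : ∀ f ∈ E, (∀ z ∈ F', f * z = z * f) ∨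
          (∀ z ∈ F', f * z * f⁻¹ = e * z * e⁻¹) := by
        intro f hf
        by_contra hcon
        push Not at hcon
        obtain ⟨hf1, z₀, hz₀, hz₀ne⟩ := hcon
        have hf1' : ¬ ∀ z ∈ F', f * z = z * f := by
          push Not
          exact hf1
        have hgE : e * f ∈ E := E.mul_mem he hf
        have hgg : (e * f) * (e * f) = 1 := hE2 _ hgE
        have hgcent : ∀ t ∈ F', (e * f) * t * (e * f)⁻¹ = t := by
          intro t ht
          have h1 := hclaim1 e he henot t ht
          have h2 := hclaim1 f hf hf1' t ht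
          have hd2F : t * (e * t * e⁻¹) ∈ F' := F'.mul_mem ht (hinv e he t ht)
          have hd1F : t * (f * t * f⁻¹) ∈ F' := F'.mul_mem ht (hinv f hf t ht)
          -- `c' = t⁻¹ g(t)`
          have hcD : ⁅t⁻¹, (t * (e * t * e⁻¹))⁻¹⁆ ∈ ⁅F', F'⁆ :=
            Subgroup.commutator_mem_commutator (F'.inv_mem ht) (F'.inv_mem hd2F)
          have hgt : (e * f) * t * (e * f)⁻¹ =
              t * (⁅t⁻¹, (t * (e * t * e⁻¹))⁻¹⁆ * (t * (e * t * e⁻¹))⁻¹ * (t * (f * t * f⁻¹))) := by
            have e1 : (e * f) * t * (e * f)⁻¹ = e * (t⁻¹ * (t * (f * t * f⁻¹))) * e⁻¹ := by group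
            have e2 : e * (t⁻¹ * (t * (f * t * f⁻¹))) * e⁻¹
                = (e * t * e⁻¹)⁻¹ * ((e * (t * (f * t * f⁻¹))) * e⁻¹) := by group
            rw [e1, e2, h2 e he, commutatorElement_def]
            group
          set c' := ⁅t⁻¹, (t * (e * t * e⁻¹))⁻¹⁆ * (t * (e * t * e⁻¹))⁻¹ * (t * (f * t * f⁻¹))
            with hc'
          have hc'F : c' ∈ F' :=
            F'.mul_mem (F'.mul_mem (hD'le hcD) (F'.inv_mem hd2F)) hd1F
          have hc'fix : (e * f) * c' = c' * (e * f) := by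
            have a1 := hD'fix _ hgE _ hcD
            have a2 := h1 _ hgE
            have a3 := h2 _ hgE
            have a2' : (e * f) * (t * (e * t * e⁻¹))⁻¹ = (t * (e * t * e⁻¹))⁻¹ * (e * f) := by
              have := congrArg (fun u => (t * (e * t * e⁻¹))⁻¹ * u * (t * (e * t * e⁻¹))⁻¹) a2
              simpa [mul_assoc] using this.symm
            rw [hc']
            calc (e * f) * (⁅t⁻¹, (t * (e * t * e⁻¹))⁻¹⁆ * (t * (e * t * e⁻¹))⁻¹ *
                  (t * (f * t * f⁻¹)))
                = ((e * f) * ⁅t⁻¹, (t * (e * t * e⁻¹))⁻¹⁆) * (t * (e * t * e⁻¹))⁻¹ *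
                  (t * (f * t * f⁻¹)) := by group
              _ = (⁅t⁻¹, (t * (e * t * e⁻¹))⁻¹⁆ * (e * f)) * (t * (e * t * e⁻¹))⁻¹ *
                  (t * (f * t * f⁻¹)) := by rw [a1]
              _ = ⁅t⁻¹, (t * (e * t * e⁻¹))⁻¹⁆ * ((e * f) * (t * (e * t * e⁻¹))⁻¹) *
                  (t * (f * t * f⁻¹)) := by group
              _ = ⁅t⁻¹, (t * (e * t * e⁻¹))⁻¹⁆ * ((t * (e * t * e⁻¹))⁻¹ * (e * f)) *
                  (t * (f * t * f⁻¹)) := by rw [a2']
              _ = ⁅t⁻¹, (t * (e * t * e⁻¹))⁻¹⁆ * (t * (e * t * e⁻¹))⁻¹ *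
                  ((e * f) * (t * (f * t * f⁻¹))) := by group
              _ = ⁅t⁻¹, (t * (e * t * e⁻¹))⁻¹⁆ * (t * (e * t * e⁻¹))⁻¹ *
                  ((t * (f * t * f⁻¹)) * (e * f)) := by rw [a3]
              _ = _ := by group
          have hcc : c' * c' = 1 := by
            have e2 : (e * f) * ((e * f) * t * (e * f)⁻¹) * (e * f)⁻¹ = t := by
              have : (e * f) * ((e * f) * t * (e * f)⁻¹) * (e * f)⁻¹
                  = ((e * f) * (e * f)) * t * ((e * f) * (e * f))⁻¹ := by group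
              rw [this, hgg]; group
            rw [hgt] at e2
            have e3 : (e * f) * (t * c') * (e * f)⁻¹
                = ((e * f) * t * (e * f)⁻¹) * (((e * f) * c') * (e * f)⁻¹) := by group
            rw [e3, hgt, hc'fix] at e2
            have e4 : t * c' * (c' * (e * f) * (e * f)⁻¹) = t * (c' * c') := by group
            rw [e4] at e2
            exact mul_left_cancel (e2.trans (mul_one _).symm)
          have hc1 : c' = 1 := eq_one_of_mul_self_of_odd (hodd' _ hc'F) hcc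
          rw [hgt, hc1, mul_one]
        apply hz₀ne
        have h3 := hgcent z₀ hz₀
        have hei := hinvE e he
        calc f * z₀ * f⁻¹ = e⁻¹ * ((e * f) * z₀ * (e * f)⁻¹) * e := by group
          _ = e⁻¹ * z₀ * e := by rw [h3]
          _ = e * z₀ * e⁻¹ := by rw [hei]
      -- the element inverted by `e`
      have hexF : e * x * e⁻¹ ∈ F' := hinv e he x hx
      have hwF : x⁻¹ * (e * x * e⁻¹) ∈ F' := F'.mul_mem (F'.inv_mem hx) hexF
      have hw1 : x⁻¹ * (e * x * e⁻¹) ≠ 1 := by
        intro h1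
        apply hex
        have h2 : e * x * e⁻¹ = x := by
          have := congrArg (fun u => x * u) h1
          simpa using this
        calc e * x = (e * x * e⁻¹) * e := by group
          _ = x * e := by rw [h2]
      have hew : e * (x⁻¹ * (e * x * e⁻¹)) * e⁻¹ = (x⁻¹ * (e * x * e⁻¹))⁻¹ := by
        have e1 : e * (x⁻¹ * (e * x * e⁻¹)) * e⁻¹ = (e * x * e⁻¹)⁻¹ * ((e * e) * x * (e * e)⁻¹) := by
          group
        rw [e1, hE2 e he]; group
      set w := x⁻¹ * (e * x * e⁻¹) with hw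
      have how1 : orderOf w ≠ 1 := fun h => hw1 (orderOf_eq_one_iff.mp h)
      have hrp : (orderOf w).minFac.Prime := Nat.minFac_prime how1
      have hrd : (orderOf w).minFac ∣ orderOf w := Nat.minFac_dvd _
      have hoy : orderOf (w ^ (orderOf w / (orderOf w).minFac)) = (orderOf w).minFac :=
        orderOf_pow_orderOf_div (orderOf_pos w).ne' hrd
      refine ⟨w ^ (orderOf w / (orderOf w).minFac), hF'F (F'.pow_mem hwF _), ?_, ?_, ?_, e, he, ?_⟩
      · intro h1
        rw [h1, orderOf_one] at hoy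
        exact hrp.ne_one hoy.symm
      · rw [hoy]; exact hrp
      · intro f hf
        rcases hclaim2 f hf with h | h
        · left
          have h1 := h _ (F'.pow_mem hwF (orderOf w / (orderOf w).minFac))
          rw [h1]; group
        · right
          rw [h _ (F'.pow_mem hwF _), ← conj_pow, hew, inv_pow]
      · rw [← conj_pow, hew, inv_pow]
  exact key (Nat.card F) F le_rfl rfl hEF hnc

end Eigen

section Offender

variable {V : Type*} [CommGroup V] [Finite V]

/-- The configuration obtained from a minimal offender, given an "eigen-element" `y`. -/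
theorem exists_config_of_min_offender_eigen (hV2 : ∀ v : V, v ^ 2 = 1) (E : Subgroup (MulAut V))
    (hEc : ∀ a ∈ E, ∀ b ∈ E, a * b = b * a) (hE2 : ∀ e ∈ E, e * e = 1)
    (y : MulAut V) (hy1 : y ≠ 1) (hyq : (orderOf y).Prime) (hyodd : Odd (orderOf y))
    (hdich : ∀ f ∈ E, f * y * f⁻¹ = y ∨ f * y * f⁻¹ = y⁻¹)
    (e : MulAut V) (he : e ∈ E) (hey : e * y * e⁻¹ = y⁻¹)
    (hoff : Nat.card V ≤ Nat.card E * Nat.card (fixedOf E))
    (hmin : ∀ F : Subgroup (MulAut V), F < E → F ≠ ⊥ →
      Nat.card F * Nat.card (fixedOf F) < Nat.card V) :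
    orderOf y ≠ 2 ∧ Nat.card (commSub y) = 4 ∧ (∀ w ∈ commSub y, y w = w → w = 1) ∧
      (∃ w ∈ commSub y, e w ≠ w) := by
  classical
  have h2f : Fact (Nat.Prime 2) := ⟨Nat.prime_two⟩
  have hq2 : orderOf y ≠ 2 := by
    intro h
    rw [h] at hyodd
    exact absurd hyodd (by decide)
  have hyinv : y⁻¹ ≠ y := by
    intro h
    have h2 : y ^ 2 = 1 := by
      rw [pow_two]
      nth_rewrite 1 [← h]
      exact inv_mul_cancel y
    have h3 : orderOf y ∣ 2 := orderOf_dvd_of_pow_eq_one h2
    exact hq2 ((Nat.prime_dvd_prime_iff_eq hyq Nat.prime_two).mp h3)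
  have hVp : IsPGroup 2 V := fun v => ⟨1, by rw [pow_one]; exact hV2 v⟩
  have hey0 : e * y = y⁻¹ * e := by rw [← hey]; group
  have heyv : ∀ v : V, e (y v) = y⁻¹ (e v) := by
    intro v
    have h2 := congrArg (fun g : MulAut V => g v) hey0
    simpa using h2
  have hysq : ∀ w : V, y⁻¹ w = y w → y w = w := by
    intro w h
    apply fixed_of_sq_fixed y hyodd
    have h1 := congrArg y h
    have h2 : y (y⁻¹ w) = w := by
      have : (y * y⁻¹) w = w := by rw [mul_inv_cancel]; rfl
      exact this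
    rw [h2] at h1
    exact h1.symm
  -- the centralizer of `y` in `E`
  have hFmem : ∀ f : MulAut V, f ∈ centSub E y⁻¹ ↔ f ∈ E ∧ f * y = y * f := by
    intro f
    rw [mem_centSub]
    constructor
    · rintro ⟨hf, h⟩
      refine ⟨hf, ?_⟩
      calc f * y = y * (y⁻¹ * f * y⁻¹⁻¹) := by group
        _ = y * f := by rw [h]
    · rintro ⟨hf, h⟩
      refine ⟨hf, ?_⟩
      calc y⁻¹ * f * y⁻¹⁻¹ = y⁻¹ * (f * y) := by group
        _ = y⁻¹ * (y * f) := by rw [h]
        _ = f := by group
  have hFle : centSub E y⁻¹ ≤ E := fun f hf => hf.1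
  have heF : e ∉ centSub E y⁻¹ := by
    intro h
    have h1 := ((hFmem e).mp h).2
    apply hyinv
    rw [← hey, h1]; group
  -- index two
  have hidx : ((centSub E y⁻¹).subgroupOf E).index = 2 := by
    rw [Subgroup.index_eq_two_iff]
    refine ⟨⟨e, he⟩, ?_⟩
    intro b
    rw [mem_subgroupOf, mem_subgroupOf, hFmem, hFmem]
    rcases hdich b b.2 with h | h
    · right
      have hb : (b : MulAut V) * y = y * b := by
        calc (b : MulAut V) * y = ((b : MulAut V) * y * (b : MulAut V)⁻¹) * b := by group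
          _ = y * b := by rw [h]
      refine ⟨⟨b.2, hb⟩, ?_⟩
      rintro ⟨-, h1⟩
      apply hyinv
      have h2 : ((b * ⟨e, he⟩ : E) : MulAut V) = (b : MulAut V) * e := rfl
      rw [h2] at h1
      calc y⁻¹ = ((b : MulAut V) * y * (b : MulAut V)⁻¹)⁻¹ := by rw [h]
        _ = (b : MulAut V) * (e * y * e⁻¹) * (b : MulAut V)⁻¹ := by rw [hey]; group
        _ = ((b : MulAut V) * e * y) * ((b : MulAut V) * e)⁻¹ := by group
        _ = (y * ((b : MulAut V) * e)) * ((b : MulAut V) * e)⁻¹ := by rw [h1]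
        _ = y := by group
    · left
      have h2 : ((b * ⟨e, he⟩ : E) : MulAut V) = (b : MulAut V) * e := rfl
      refine ⟨⟨E.mul_mem b.2 he, ?_⟩, ?_⟩
      · rw [h2]
        calc (b : MulAut V) * e * y = (b : MulAut V) * (e * y * e⁻¹) * e := by group
          _ = (b : MulAut V) * y⁻¹ * e := by rw [hey]
          _ = ((b : MulAut V) * y * (b : MulAut V)⁻¹)⁻¹ * b * e := by group
          _ = y * (b * e) := by rw [h]; group
      · rintro ⟨-, h1⟩
        apply hyinv
        calc y⁻¹ = (b : MulAut V) * y * (b : MulAut V)⁻¹ := h.symm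
          _ = y * b * (b : MulAut V)⁻¹ := by rw [h1]
          _ = y := by group
  have hcardEF : Nat.card E = 2 * Nat.card (centSub E y⁻¹) := by
    have h1 := Subgroup.card_mul_index ((centSub E y⁻¹).subgroupOf E)
    rw [hidx, Nat.card_congr (Subgroup.subgroupOfEquivOfLe hFle).toEquiv] at h1
    rw [← h1, mul_comm]
  -- `F = 1`
  have hFbot : centSub E y⁻¹ = ⊥ := by
    by_contra hFne
    have hFE : centSub E y⁻¹ < E := lt_of_le_of_ne hFle (fun h => heF (by rw [h]; exact he))
    have h1 := hmin _ hFE hFne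
    have hF2 : IsPGroup 2 (centSub E y⁻¹) := by
      intro f
      refine ⟨1, ?_⟩
      rw [pow_one, pow_two]
      exact Subtype.ext (hE2 f (hFle f.2))
    obtain ⟨a, ha⟩ := (IsPGroup.iff_card (p := 2)).mp hF2
    obtain ⟨b, hb⟩ := (IsPGroup.iff_card (p := 2)).mp (hVp.to_subgroup (fixedOf (centSub E y⁻¹)))
    obtain ⟨c, hc⟩ := (IsPGroup.iff_card (p := 2)).mp hVp
    have h2 : 2 * (Nat.card (centSub E y⁻¹) * Nat.card (fixedOf (centSub E y⁻¹))) ≤ Nat.card V := by
      rw [ha, hb, hc, ← pow_add] at h1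
      rw [ha, hb, hc, ← pow_add, ← pow_succ']
      have h3 : a + b < c := (Nat.pow_lt_pow_iff_right (by norm_num)).mp h1
      exact Nat.pow_le_pow_right (by norm_num) h3
    have h3 : Nat.card (fixedOf (centSub E y⁻¹)) ≤ Nat.card (fixedOf E) := by
      have h4 : Nat.card E * Nat.card (fixedOf (centSub E y⁻¹))
          ≤ Nat.card E * Nat.card (fixedOf E) := by
        calc Nat.card E * Nat.card (fixedOf (centSub E y⁻¹))
            = 2 * (Nat.card (centSub E y⁻¹) * Nat.card (fixedOf (centSub E y⁻¹))) := by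
              rw [hcardEF]; ring
          _ ≤ Nat.card V := h2
          _ ≤ _ := hoff
      exact Nat.le_of_mul_le_mul_left h4 Nat.card_pos
    have hle : fixedOf E ≤ fixedOf (centSub E y⁻¹) := fun v hv f hf => hv f (hFle hf)
    have heq : fixedOf E = fixedOf (centSub E y⁻¹) := Subgroup.eq_of_le_of_card_ge hle h3
    have hyfix : ∀ w ∈ fixedOf (centSub E y⁻¹), y w = w := by
      intro w hw
      have hyw : y w ∈ fixedOf (centSub E y⁻¹) := by
        intro f hf
        have hfy := ((hFmem f).mp hf).2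
        have h5 : f (y w) = y (f w) := by
          have h6 := congrArg (fun g : MulAut V => g w) hfy
          simpa using h6
        rw [h5, hw f hf]
      have h5 : e (y w) = y w := by
        have h6 : y w ∈ fixedOf E := by rw [heq]; exact hyw
        exact h6 e he
      have h6 : e w = w := by
        have h7 : w ∈ fixedOf E := by rw [heq]; exact hw
        exact h7 e he
      rw [heyv, h6] at h5
      exact hysq w h5
    obtain ⟨w, hw, hw1, hwfix⟩ := exists_fixed_of_commuting_involutions hV2 (commSub y)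
      (commSub_ne_bot hy1) (Set.toFinite ((centSub E y⁻¹ : Subgroup (MulAut V)) : Set (MulAut V))).toFinset
      (fun f hf f' hf' => by
        rw [Set.Finite.mem_toFinset] at hf hf'
        exact hEc f (hFle hf) f' (hFle hf'))
      (fun f hf => by
        rw [Set.Finite.mem_toFinset] at hf
        exact hE2 f (hFle hf))
      (fun f hf w hw => by
        rw [Set.Finite.mem_toFinset] at hf
        exact commSub_mem_of_commute ((hFmem f).mp hf).2 hw)
    have hwF : w ∈ fixedOf (centSub E y⁻¹) := fun f hf =>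
      hwfix f (by rw [Set.Finite.mem_toFinset]; exact hf)
    exact hw1 (eq_one_of_mem_commSub_of_fixed hV2 y hyodd hw (hyfix w hwF))
  -- `E = {1, e}`
  have hEelts : ∀ f ∈ E, f = 1 ∨ f = e := by
    intro f hf
    rcases hdich f hf with h | h
    · left
      have h1 : f ∈ centSub E y⁻¹ := by
        rw [hFmem]
        refine ⟨hf, ?_⟩
        calc f * y = (f * y * f⁻¹) * f := by group
          _ = y * f := by rw [h]
      rw [hFbot, Subgroup.mem_bot] at h1
      exact h1
    · right
      have h1 : f * e ∈ centSub E y⁻¹ := by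
        rw [hFmem]
        refine ⟨E.mul_mem hf he, ?_⟩
        calc f * e * y = f * (e * y * e⁻¹) * e := by group
          _ = f * y⁻¹ * e := by rw [hey]
          _ = (f * y * f⁻¹)⁻¹ * f * e := by group
          _ = y * (f * e) := by rw [h]; group
      rw [hFbot, Subgroup.mem_bot] at h1
      calc f = (f * e) * (e * e)⁻¹ * e := by group
        _ = e := by rw [h1, hE2 e he]; group
  have hfixE : ∀ v : V, v ∈ fixedOf E ↔ e v = v := by
    intro v
    constructor
    · intro hv; exact hv e he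
    · intro hv f hf
      rcases hEelts f hf with h | h
      · rw [h]; rfl
      · rw [h]; exact hv
  have hcardE : Nat.card E = 2 := by rw [hcardEF, hFbot, Subgroup.card_bot]
  have hoff2 : Nat.card V ≤ 2 * Nat.card (fixedOf E) := by rwa [hcardE] at hoff
  have hWne : commSub y ≠ ⊥ := commSub_ne_bot hy1
  have hWfix : ∀ w ∈ commSub y, y w = w → w = 1 :=
    fun w hw h => eq_one_of_mem_commSub_of_fixed hV2 y hyodd hw h
  -- `|W| ≤ 2 |C|`
  have h1 : Nat.card (commSub y) ≤ 2 * Nat.card ↥(commSub y ⊓ fixedOf E) := by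
    have h2 := card_sup_mul_card_inf (commSub y) (fixedOf E)
    have h3 : Nat.card ↥(commSub y ⊔ fixedOf E) ≤ Nat.card V := Subgroup.card_le_card_group _
    have h4 : fixedOf E ⊓ commSub y = commSub y ⊓ fixedOf E := inf_comm _ _
    rw [h4] at h2
    have h5 : Nat.card (fixedOf E) * Nat.card (commSub y)
        ≤ Nat.card (fixedOf E) * (2 * Nat.card ↥(commSub y ⊓ fixedOf E)) := by
      calc Nat.card (fixedOf E) * Nat.card (commSub y)
          = Nat.card ↥(commSub y ⊔ fixedOf E) * Nat.card ↥(commSub y ⊓ fixedOf E) := h2.symm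
        _ ≤ Nat.card V * Nat.card ↥(commSub y ⊓ fixedOf E) := Nat.mul_le_mul_right _ h3
        _ ≤ (2 * Nat.card (fixedOf E)) * Nat.card ↥(commSub y ⊓ fixedOf E) :=
            Nat.mul_le_mul_right _ hoff2
        _ = Nat.card (fixedOf E) * (2 * Nat.card ↥(commSub y ⊓ fixedOf E)) := by ring
    exact Nat.le_of_mul_le_mul_left h5 Nat.card_pos
  -- `C ∩ y(C) = 1`
  have hC'W : (commSub y ⊓ fixedOf E).map y.toMonoidHom ≤ commSub y := by
    rintro _ ⟨w, hw, rfl⟩
    exact commSub_apply_mem (Subgroup.mem_inf.mp hw).1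
  have hCC' : (commSub y ⊓ fixedOf E) ⊓ (commSub y ⊓ fixedOf E).map y.toMonoidHom = ⊥ := by
    rw [Subgroup.eq_bot_iff_forall]
    intro w hw
    obtain ⟨hw1, hw2⟩ := Subgroup.mem_inf.mp hw
    obtain ⟨w', hw', rfl⟩ := hw2
    have h6 : e w' = w' := (Subgroup.mem_inf.mp hw').2 e he
    have h7 : e (y w') = y w' := (Subgroup.mem_inf.mp hw1).2 e he
    rw [heyv, h6] at h7
    have h9 : y w' = w' := hysq w' h7
    have h10 : w' = 1 := hWfix w' (Subgroup.mem_inf.mp hw').1 h9
    rw [h10]
    exact map_one _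
  have hcardC' : Nat.card ↥((commSub y ⊓ fixedOf E).map y.toMonoidHom)
      = Nat.card ↥(commSub y ⊓ fixedOf E) := Subgroup.card_map_of_injective y.injective
  have h2 : Nat.card ↥(commSub y ⊓ fixedOf E) * Nat.card ↥(commSub y ⊓ fixedOf E)
      ≤ Nat.card (commSub y) := by
    have h3 := card_sup_mul_card_inf (commSub y ⊓ fixedOf E)
      ((commSub y ⊓ fixedOf E).map y.toMonoidHom)
    have h5 : (commSub y ⊓ fixedOf E).map y.toMonoidHom ⊓ (commSub y ⊓ fixedOf E) = ⊥ := by
      rw [inf_comm]; exact hCC'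
    rw [h5, Subgroup.card_bot, mul_one, hcardC'] at h3
    rw [← h3]
    exact Subgroup.card_le_of_le (sup_le inf_le_left hC'W)
  have hCpos : 0 < Nat.card ↥(commSub y ⊓ fixedOf E) := Nat.card_pos
  have h3 : Nat.card ↥(commSub y ⊓ fixedOf E) ≤ 2 := by nlinarith
  have h4 : Nat.card (commSub y) ≤ 4 := by omega
  obtain ⟨j, hj⟩ := (IsPGroup.iff_card (p := 2)).mp (hVp.to_subgroup (commSub y))
  have hW1 : Nat.card (commSub y) ≠ 1 := fun h => hWne (Subgroup.eq_bot_of_card_eq _ h)
  have hW2 : Nat.card (commSub y) ≠ 2 := by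
    intro h
    obtain ⟨w, hw⟩ := (Subgroup.ne_bot_iff_exists_ne_one).mp hWne
    have huniq := (Nat.card_eq_two_iff' (1 : commSub y)).mp h
    have hyw1 : (⟨y (w : V), commSub_apply_mem w.2⟩ : commSub y) ≠ 1 := by
      intro h5
      have h6 : y (w : V) = 1 := congrArg Subtype.val h5
      have h7 : (w : V) = 1 := by
        have := congrArg y.symm h6
        simpa using this
      exact hw (Subtype.ext h7)
    have h5 : (⟨y (w : V), commSub_apply_mem w.2⟩ : commSub y) = w := huniq.unique hyw1 hw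
    have h6 : y (w : V) = w := congrArg Subtype.val h5
    exact hw (Subtype.ext (hWfix w w.2 h6))
  have hW4 : Nat.card (commSub y) = 4 := by
    rw [hj] at h4 hW1 hW2 ⊢
    rcases j with _ | _ | _ | j
    · exact absurd rfl hW1
    · exact absurd rfl hW2
    · rfl
    · exfalso
      have : 2 ^ (j + 3) = 8 * 2 ^ j := by ring
      have hpos : 0 < 2 ^ j := Nat.pow_pos (by norm_num)
      omega
  refine ⟨hq2, hW4, hWfix, ?_⟩
  by_contra hcon
  push Not at hcon
  obtain ⟨w, hw⟩ := (Subgroup.ne_bot_iff_exists_ne_one).mp hWne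
  have h5 : e (w : V) = w := hcon w w.2
  have h6 : e (y (w : V)) = y w := hcon _ (commSub_apply_mem w.2)
  rw [heyv, h5] at h6
  exact hw (Subtype.ext (hWfix w w.2 (hysq w h6)))

/-- **Offender lemma** (solvable odd-order normalized subgroup): the `S₃`-configuration from an
offender on an elementary abelian `2`-group. -/
theorem exists_config_of_offender_solvable (hV2 : ∀ v : V, v ^ 2 = 1) (Y : Subgroup (MulAut V))
    (hYodd : Odd (Nat.card Y)) (hYsol : Group.IsSolvable Y) :
    ∀ (E : Subgroup (MulAut V)),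
    (∀ a ∈ E, ∀ b ∈ E, a * b = b * a) → (∀ e ∈ E, e * e = 1) →
    (∀ e ∈ E, ∀ y ∈ Y, e * y * e⁻¹ ∈ Y) →
    (∀ e ∈ E, (∀ y ∈ Y, e * y = y * e) → e = 1) → E ≠ ⊥ →
    Nat.card V ≤ Nat.card E * Nat.card (fixedOf E) →
    ∃ y ∈ Y, ∃ e ∈ E, (orderOf y).Prime ∧ orderOf y ≠ 2 ∧ e * y * e⁻¹ = y⁻¹ ∧
      Nat.card (commSub y) = 4 ∧ (∀ w ∈ commSub y, y w = w → w = 1) ∧
      (∃ w ∈ commSub y, e w ≠ w) := by
  have key : ∀ n : ℕ, ∀ (E : Subgroup (MulAut V)), Nat.card E = n →
      (∀ a ∈ E, ∀ b ∈ E, a * b = b * a) → (∀ e ∈ E, e * e = 1) →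
      (∀ e ∈ E, ∀ y ∈ Y, e * y * e⁻¹ ∈ Y) →
      (∀ e ∈ E, (∀ y ∈ Y, e * y = y * e) → e = 1) → E ≠ ⊥ →
      Nat.card V ≤ Nat.card E * Nat.card (fixedOf E) →
      ∃ y ∈ Y, ∃ e ∈ E, (orderOf y).Prime ∧ orderOf y ≠ 2 ∧ e * y * e⁻¹ = y⁻¹ ∧
        Nat.card (commSub y) = 4 ∧ (∀ w ∈ commSub y, y w = w → w = 1) ∧
        (∃ w ∈ commSub y, e w ≠ w) := by
    intro n
    induction n using Nat.strong_induction_on with
    | _ n ih =>
      intro E hn hEc hE2 hEY hfaith hEne hoff
      by_cases hmin : ∀ F : Subgroup (MulAut V), F < E → F ≠ ⊥ →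
          Nat.card F * Nat.card (fixedOf F) < Nat.card V
      · have hnc : ∃ e ∈ E, ∃ y ∈ Y, e * y ≠ y * e := by
          by_contra hcon
          push Not at hcon
          apply hEne
          rw [Subgroup.eq_bot_iff_forall]
          intro e he
          exact hfaith e he (hcon e he)
        obtain ⟨y, hyY, hy1, hyq, hdich, e, he, hey⟩ :=
          exists_eigen_element_of_solvable Y E hYodd hYsol hEc hE2 hnc hEY
        have hyodd : Odd (orderOf y) :=
          Odd.of_dvd_nat hYodd (Subgroup.orderOf_dvd_natCard Y hyY)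
        obtain ⟨hq2, hW4, hWfix, hw⟩ :=
          exists_config_of_min_offender_eigen hV2 E hEc hE2 y hy1 hyq hyodd hdich e he hey hoff hmin
        exact ⟨y, hyY, e, he, hyq, hq2, hey, hW4, hWfix, hw⟩
      · push Not at hmin
        obtain ⟨F, hFE, hFne, hFoff⟩ := hmin
        obtain ⟨y, hy, e, he, rest⟩ := ih (Nat.card F) (by rw [← hn]; exact card_lt_card_of_lt hFE)
          F rfl (fun a ha b hb => hEc a (hFE.le ha) b (hFE.le hb)) (fun e he => hE2 e (hFE.le he))
          (fun e he => hEY e (hFE.le he)) (fun e he => hfaith e (hFE.le he)) hFne hFoff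
        exact ⟨y, hy, e, hFE.le he, rest⟩
  intro E
  exact key (Nat.card E) E rfl

end Offender

end Cfsg.Agent.Lib.Helper2.Off
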