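import Mathlib
import Cfsg.Prelude.Def_LocalEven
import Cfsg.Agent.Lib.Helper34.EvenEndgame
import Cfsg.Agent.Lib.Helper2.Offender2
import Cfsg.Agent.Lib.Helper2.S4Config2

/-!
# An offender on a normal elementary abelian `2`-subgroup forces `S₄` to be involved

`V` normal elementary abelian `2`-subgroup of `G`, `K` a solvable normal subgroup with
`K / C_K(V)` of odd order, `A` an elementary abelian `2`-subgroup acting faithfully on `K / C_K(V)`
modulo `C_G(V)`, not centralizing `V`, and an offender on `V`.  Then `S₄` is involved in `G`.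
(The argument follows `Cfsg.Agent.Lib.Helper34.Endgame.involves_S4`.)
-/

set_option autoImplicit false

namespace Cfsg.Agent.Lib.Helper2.Off

open Subgroup
open Cfsg.Agent.Lib.Helper34 Cfsg.Agent.Lib.Helper54
open scoped IsMulCommutative

theorem involves_S4_of_offender {G : Type*} [Group G] [Finite G] (V K A : Subgroup G)
    [hVn : V.Normal] [hKn : K.Normal]
    (hVe : Cfsg.IsElementaryAbelian 2 V)
    (hKodd : Odd ((centralizer (V : Set G)).relIndex K))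
    (hKsol : Group.IsSolvable K)
    (hAe : Cfsg.IsElementaryAbelian 2 A)
    (hfaith : ∀ a ∈ A, (∀ k ∈ K, a * k * a⁻¹ * k⁻¹ ∈ centralizer (V : Set G)) →
      a ∈ centralizer (V : Set G))
    (hAC : ¬ A ≤ centralizer (V : Set G))
    (hoff : Nat.card V * Nat.card ↥(A ⊓ centralizer (V : Set G)) ≤ Nat.card A * Nat.card ↥(V ⊓ A)) :
    Cfsg.Involves (Equiv.Perm (Fin 4)) G := by
  classical
  have hVc : IsMulCommutative V := hVe.1
  have hAc : IsMulCommutative A := hAe.1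
  have h2f : Fact (Nat.Prime 2) := ⟨Nat.prime_two⟩
  obtain ⟨U, hUdef⟩ : ∃ U : Subgroup G, U = centralizer (V : Set G) := ⟨_, rfl⟩
  rw [← hUdef] at hKodd hfaith hAC hoff
  obtain ⟨ρ, hρdef⟩ : ∃ ρ : G →* MulAut V, ρ = MulAut.conjNormal := ⟨_, rfl⟩
  have hρ : ∀ (g : G) (v : V), ((ρ g v : V) : G) = g * v * g⁻¹ := by
    intro g v
    rw [hρdef]
    exact MulAut.conjNormal_apply g v
  have hker : ∀ g : G, ρ g = 1 ↔ g ∈ U := by
    intro g
    rw [hUdef, hρdef]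
    exact conjNormal_eq_one_iff V g
  have hkerρ : ρ.ker = U := by
    ext g
    rw [MonoidHom.mem_ker]
    exact hker g
  have hV2 : ∀ v : V, v ^ 2 = 1 := by
    intro v
    apply Subtype.ext
    simpa using hVe.2 (v : G) v.2
  have hYodd : Odd (Nat.card (K.map ρ)) := by
    have h2 := Subgroup.relIndex_ker (K := K) ρ
    rw [hkerρ] at h2
    rw [← h2]
    exact hKodd
  have hYsol : Group.IsSolvable (K.map ρ) :=
    Group.isSolvable_of_surjective (f := ρ.subgroupMap K) (ρ.subgroupMap_surjective K)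
  have hEc : ∀ a ∈ A.map ρ, ∀ b ∈ A.map ρ, a * b = b * a := by
    rintro _ ⟨a, ha, rfl⟩ _ ⟨b, hb, rfl⟩
    rw [← map_mul, ← map_mul]
    congr 1
    exact congrArg Subtype.val (hAc.is_comm.comm ⟨a, ha⟩ ⟨b, hb⟩)
  have hA2 : ∀ a ∈ A, a * a = 1 := by
    intro a ha
    rw [← pow_two]; exact hAe.2 a ha
  have hE2 : ∀ e ∈ A.map ρ, e * e = 1 := by
    rintro _ ⟨a, ha, rfl⟩
    rw [← map_mul, hA2 a ha, map_one]
  have hEY : ∀ e ∈ A.map ρ, ∀ y ∈ K.map ρ, e * y * e⁻¹ ∈ K.map ρ := by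
    rintro _ ⟨a, ha, rfl⟩ _ ⟨y, hy, rfl⟩
    exact ⟨a * y * a⁻¹, hKn.conj_mem y hy a, by rw [map_mul, map_mul, map_inv]⟩
  have hfaith' : ∀ e ∈ A.map ρ, (∀ y ∈ K.map ρ, e * y = y * e) → e = 1 := by
    rintro _ ⟨a, ha, rfl⟩ hcent
    rw [hker]
    apply hfaith a ha
    intro y hy
    rw [← hker, map_mul, map_mul, map_mul, map_inv, map_inv, hcent _ ⟨y, hy, rfl⟩]
    group
  have hEne : A.map ρ ≠ ⊥ := by
    intro hbot
    apply hAC
    intro a ha
    rw [← hker]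
    have h1 : ρ a ∈ A.map ρ := ⟨a, ha, rfl⟩
    rw [hbot, Subgroup.mem_bot] at h1
    exact h1
  have hoff' : Nat.card V ≤ Nat.card (A.map ρ) * Nat.card (fixedOf (A.map ρ)) := by
    have h1 : Nat.card (A.map ρ) * Nat.card ↥(A ⊓ U) = Nat.card A := by
      have h2 := Subgroup.relIndex_ker (K := A) ρ
      rw [hkerρ] at h2
      have h3 := Subgroup.card_mul_index (U.subgroupOf A)
      have h4 : Nat.card (U.subgroupOf A) = Nat.card ↥(A ⊓ U) := by
        rw [inf_comm, ← Subgroup.inf_subgroupOf_right U A]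
        exact Nat.card_congr (Subgroup.subgroupOfEquivOfLe inf_le_right).toEquiv
      rw [h4] at h3
      rw [← h2, ← h3, mul_comm]
      rfl
    have h2 : Nat.card ↥(V ⊓ A) ≤ Nat.card (fixedOf (A.map ρ)) := by
      have hle : V ⊓ A ≤ (fixedOf (A.map ρ)).map V.subtype := by
        intro v hv
        obtain ⟨hvV, hvA⟩ := Subgroup.mem_inf.mp hv
        refine ⟨⟨v, hvV⟩, ?_, rfl⟩
        rintro _ ⟨a, ha, rfl⟩
        apply Subtype.ext
        rw [hρ]
        show a * v * a⁻¹ = v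
        have h3 : a * v = v * a := congrArg Subtype.val (hAc.is_comm.comm ⟨a, ha⟩ ⟨v, hvA⟩)
        rw [h3]; group
      calc Nat.card ↥(V ⊓ A) ≤ Nat.card ↥((fixedOf (A.map ρ)).map V.subtype) :=
            Subgroup.card_le_of_le hle
        _ = Nat.card (fixedOf (A.map ρ)) := Subgroup.card_map_of_injective V.subtype_injective
    have h3 := hoff
    rw [← h1] at h3
    have hpos : 0 < Nat.card ↥(A ⊓ U) := Nat.card_pos
    have h4 : Nat.card V * Nat.card ↥(A ⊓ U)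
        ≤ (Nat.card (A.map ρ) * Nat.card (fixedOf (A.map ρ))) * Nat.card ↥(A ⊓ U) := by
      calc Nat.card V * Nat.card ↥(A ⊓ U)
          ≤ Nat.card (A.map ρ) * Nat.card ↥(A ⊓ U) * Nat.card ↥(V ⊓ A) := h3
        _ ≤ Nat.card (A.map ρ) * Nat.card ↥(A ⊓ U) * Nat.card (fixedOf (A.map ρ)) :=
            Nat.mul_le_mul_left _ h2
        _ = (Nat.card (A.map ρ) * Nat.card (fixedOf (A.map ρ))) * Nat.card ↥(A ⊓ U) := by ring
    exact Nat.le_of_mul_le_mul_right h4 hpos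
  obtain ⟨y, hyY, e, heE, hq, hq2, hey, hW4, hWfix, w₁, hw₁, hew₁⟩ :=
    exists_config_of_offender_solvable hV2 (K.map ρ) hYodd hYsol (A.map ρ) hEc hE2 hEY hfaith'
      hEne hoff'
  obtain ⟨g₀, hg₀K, rfl⟩ := hyY
  obtain ⟨a, haA, rfl⟩ := heE
  obtain ⟨q, hqdef⟩ : ∃ q : ℕ, q = orderOf (ρ g₀) := ⟨_, rfl⟩
  rw [← hqdef] at hq hq2
  have hqf : Fact q.Prime := ⟨hq⟩
  have hcop2q : Nat.Coprime 2 q := (Nat.coprime_primes Nat.prime_two hq).mpr (Ne.symm hq2)
  have hyq : ρ g₀ ^ q = 1 := by rw [hqdef]; exact pow_orderOf_eq_one _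
  obtain ⟨j, hj⟩ : Odd q := hq.odd_of_ne_two hq2
  have haa : a * a = 1 := hA2 a haA
  have hainv : a⁻¹ = a := inv_eq_of_mul_eq_one_left haa
  -- the commutator `g₁ = [a, g₀]` is inverted by `a`
  obtain ⟨g₁, hg₁def⟩ : ∃ g₁ : G, g₁ = a * g₀ * a⁻¹ * g₀⁻¹ := ⟨_, rfl⟩
  have hag₁ : a * g₁ * a⁻¹ = g₁⁻¹ := by
    rw [hg₁def]
    have e1 : a * (a * g₀ * a⁻¹ * g₀⁻¹) * a⁻¹ = (a * a) * g₀ * a⁻¹ * g₀⁻¹ * a⁻¹ := by group
    rw [e1, haa, hainv]
    have e2 : (a * g₀ * a * g₀⁻¹)⁻¹ = g₀ * a⁻¹ * g₀⁻¹ * a⁻¹ := by group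
    rw [e2, hainv]; group
  have hρg₁ : ρ g₁ = (ρ g₀)⁻¹ * (ρ g₀)⁻¹ := by
    rw [hg₁def, map_mul, map_mul, map_mul, map_inv, map_inv, hey]
  have hordg₁ : orderOf (ρ g₁) = q := by
    have hc : (orderOf (ρ g₀)⁻¹).Coprime 2 := by
      rw [orderOf_inv, ← hqdef]
      exact hcop2q.symm
    rw [hρg₁, ← pow_two, hc.orderOf_pow, orderOf_inv, hqdef]
  have hq' : (orderOf (ρ g₁)).Prime := by rw [hordg₁]; exact hq
  obtain ⟨n, k, hgρ, hgk⟩ := exists_pow_of_prime_order ρ g₁ hq'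
  rw [hordg₁] at hgk
  obtain ⟨g, hgdef⟩ : ∃ g : G, g = (g₁ ^ n) ^ j := ⟨_, rfl⟩
  have hρg : ρ g = ρ g₀ := by
    rw [hgdef, map_pow, hgρ, hρg₁]
    have h1 : ((ρ g₀)⁻¹ * (ρ g₀)⁻¹) ^ j * (ρ g₀)⁻¹ = 1 := by
      rw [← pow_two, ← pow_mul, ← pow_succ, ← hj, inv_pow, hyq, inv_one]
    exact eq_of_mul_inv_eq_one h1
  have hgqk : g ^ q ^ k = 1 := by
    rw [hgdef, ← pow_mul, mul_comm, pow_mul, hgk, one_pow]
  have hag : a * g * a⁻¹ = g⁻¹ := by
    rw [hgdef, ← pow_mul, ← conj_pow, hag₁, inv_pow]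
  rw [← hρg] at hey hW4 hWfix hw₁ hyq
  -- the four-group
  have hWmem : ∀ w : V, w ∈ commSub (ρ g) → (w : G) ∈ (commSub (ρ g)).map V.subtype :=
    fun w hw => ⟨w, hw, rfl⟩
  have hW0card : Nat.card ((commSub (ρ g)).map V.subtype) = 4 := by
    rw [Subgroup.card_map_of_injective V.subtype_injective]; exact hW4
  have hgN : g ∈ normalizer (((commSub (ρ g)).map V.subtype : Subgroup G) : Set G) := by
    apply mem_normalizer_of_forall_conj_mem
    rintro _ ⟨w, hw, rfl⟩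
    have h1 := hWmem _ (commSub_apply_mem hw)
    rw [hρ] at h1
    exact h1
  have htN : a ∈ normalizer (((commSub (ρ g)).map V.subtype : Subgroup G) : Set G) := by
    apply mem_normalizer_of_forall_conj_mem
    rintro _ ⟨w, hw, rfl⟩
    have h1 := hWmem _ (commSub_mem_of_invert hey hw)
    rw [hρ] at h1
    exact h1
  have htn : a ∈ normalizer ((zpowers g : Subgroup G) : Set G) := by
    apply mem_normalizer_of_forall_conj_mem
    rintro _ ⟨i, rfl⟩
    have h1 : a * g ^ i * a⁻¹ = (g⁻¹) ^ i := by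
      rw [← hag, conj_zpow]
    rw [h1]
    exact (zpowers g).zpow_mem ((zpowers g).inv_mem (mem_zpowers g)) i
  have hw₁1 : w₁ ≠ 1 := by
    intro h1
    rw [h1, map_one] at hew₁
    exact hew₁ rfl
  apply involves_perm_four_of_subgroups' ((commSub (ρ g)).map V.subtype)
    (normalizer ((zpowers g : Subgroup G) : Set G) ⊓
      normalizer (((commSub (ρ g)).map V.subtype : Subgroup G) : Set G))
    inf_le_right ?_ hW0card g a
    (Subgroup.mem_inf.mpr ⟨le_normalizer (mem_zpowers g), hgN⟩)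
    (Subgroup.mem_inf.mpr ⟨htn, htN⟩) q hq hq2 ?_ ?_ ?_ ?_
  · -- `W ∩ N₀ = 1`
    rw [Subgroup.eq_bot_iff_forall]
    intro x hx
    obtain ⟨hxW, hxN⟩ := Subgroup.mem_inf.mp hx
    obtain ⟨w, hw, rfl⟩ := hxW
    have hwn : (w : G) ∈ normalizer ((zpowers g : Subgroup G) : Set G) := (Subgroup.mem_inf.mp hxN).1
    have h1 : (w : G) * g * (w : G)⁻¹ ∈ zpowers g := (mem_normalizer_iff.mp hwn g).mp (mem_zpowers g)
    have h2 : (w : G) * g * (w : G)⁻¹ * g⁻¹ ∈ zpowers g :=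
      (zpowers g).mul_mem h1 ((zpowers g).inv_mem (mem_zpowers g))
    have h3 : (w : G) * g * (w : G)⁻¹ * g⁻¹ ∈ V := by
      have e1 : (w : G) * g * (w : G)⁻¹ * g⁻¹ = (w : G) * (g * (w : G)⁻¹ * g⁻¹) := by group
      rw [e1]
      exact V.mul_mem w.2 (hVn.conj_mem _ (V.inv_mem w.2) g)
    have h4 : ((w : G) * g * (w : G)⁻¹ * g⁻¹) ^ q ^ k = 1 := by
      obtain ⟨i, hi⟩ := h2
      rw [← hi, ← zpow_natCast, ← zpow_mul, mul_comm, zpow_mul, zpow_natCast, hgqk, one_zpow]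
    have h5 : ((w : G) * g * (w : G)⁻¹ * g⁻¹) ^ 2 = 1 := hVe.2 _ h3
    have h6 : orderOf ((w : G) * g * (w : G)⁻¹ * g⁻¹) = 1 :=
      Nat.eq_one_of_dvd_coprimes (Nat.Coprime.pow_right k hcop2q) (orderOf_dvd_of_pow_eq_one h5)
        (orderOf_dvd_of_pow_eq_one h4)
    have h7 : (w : G) * g * (w : G)⁻¹ * g⁻¹ = 1 := orderOf_eq_one_iff.mp h6
    have h8 : ρ g w = w := by
      apply Subtype.ext
      rw [hρ]
      calc g * (w : G) * g⁻¹ = ((w : G) * g * (w : G)⁻¹ * g⁻¹)⁻¹ * w := by group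
        _ = w := by rw [h7, inv_one, one_mul]
    have h9 := hWfix w hw h8
    rw [h9]; rfl
  · -- `g ^ q` centralizes `W`
    rintro _ ⟨w, hw, rfl⟩
    have h1 : g ^ q ∈ U := by rw [← hker, map_pow]; exact hyq
    rw [hUdef] at h1
    exact ((mem_centralizer_iff.mp h1) w w.2).symm
  · refine ⟨w₁, hWmem w₁ hw₁, ?_⟩
    intro hc
    apply hw₁1
    apply hWfix w₁ hw₁
    apply Subtype.ext
    rw [hρ, hc]; group
  · intro x _
    rw [haa, one_mul, mul_one]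
  · refine ⟨w₁, hWmem w₁ hw₁, ?_⟩
    intro hc
    apply hew₁
    apply Subtype.ext
    rw [hρ, hc]; group

end Cfsg.Agent.Lib.Helper2.Off
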