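import Mathlib
import Cfsg.Prelude.Def_Transfer

set_option autoImplicit false

namespace Cfsg.Agent.Lib.Helper2

variable {G : Type*} [Group G]

/-- A normal complement to one Sylow `p`-subgroup is a complement to every Sylow `p`-subgroup. -/
theorem isComplement'_sylow_of_isComplement'_sylow [Finite G] {p : ℕ} [Fact p.Prime]
    (P₀ P : Sylow p G) (N : Subgroup G) (h : N.IsComplement' (P₀ : Subgroup G)) :
    N.IsComplement' (P : Subgroup G) := by
  have hp : p.Prime := Fact.out
  have hc : Nat.card (P : Subgroup G) = Nat.card (P₀ : Subgroup G) := by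
    rw [Sylow.card_eq_multiplicity, Sylow.card_eq_multiplicity]
  apply Subgroup.isComplement'_of_coprime
  · rw [hc]; exact h.card_mul_card
  · have h1 : (P₀ : Subgroup G).index = Nat.card N := h.index_eq_card
    have h2 : ¬ p ∣ Nat.card N := h1 ▸ P₀.not_dvd_index
    obtain ⟨k, hk⟩ := P.2.exists_card_eq
    rw [hk]
    exact Nat.Coprime.pow_right k (Nat.coprime_comm.mp ((Nat.Prime.coprime_iff_not_dvd hp).mpr h2))

/-- `HasNormalPComplement` can be tested on any given Sylow `p`-subgroup. -/
theorem hasNormalPComplement_iff [Finite G] {p : ℕ} [Fact p.Prime] (P : Sylow p G) :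
    Cfsg.HasNormalPComplement p G ↔
      ∃ N : Subgroup G, N.Normal ∧ N.IsComplement' (P : Subgroup G) := by
  constructor
  · rintro ⟨P₀, N, hN, hc⟩
    exact ⟨N, hN, isComplement'_sylow_of_isComplement'_sylow P₀ P N hc⟩
  · rintro ⟨N, hN, hc⟩
    exact ⟨P, N, hN, hc⟩

/-- Burnside: if `N_G(P) ≤ C_G(P)` then `G` has a normal `p`-complement. -/
theorem hasNormalPComplement_of_normalizer_le_centralizer [Finite G] {p : ℕ} [Fact p.Prime]
    (P : Sylow p G) (h : Subgroup.normalizer (P : Set G) ≤ Subgroup.centralizer (P : Set G)) :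
    Cfsg.HasNormalPComplement p G :=
  ⟨P, (MonoidHom.transferSylow P h).ker, inferInstance,
    MonoidHom.ker_transferSylow_isComplement' P h⟩

/-- The order of a normal `p`-complement is prime to `p`. -/
theorem not_dvd_card_of_isComplement' [Finite G] {p : ℕ} [Fact p.Prime]
    (P : Sylow p G) (N : Subgroup G) (h : N.IsComplement' (P : Subgroup G)) :
    ¬ p ∣ Nat.card N := by
  have h1 : (P : Subgroup G).index = Nat.card N := h.index_eq_card
  exact h1 ▸ P.not_dvd_index

/-- A normal `p`-complement meets every `p`-subgroup trivially. -/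
theorem inf_eq_bot_of_isComplement' [Finite G] {p : ℕ} [Fact p.Prime]
    (P : Sylow p G) (N : Subgroup G) (h : N.IsComplement' (P : Subgroup G))
    (Q : Subgroup G) (hQ : IsPGroup p Q) : N ⊓ Q = ⊥ := by
  have hp : p.Prime := Fact.out
  have h2 := not_dvd_card_of_isComplement' P N h
  rw [eq_bot_iff]
  rintro x ⟨hxN, hxQ⟩
  rw [Subgroup.mem_bot]
  obtain ⟨k, hk⟩ := hQ ⟨x, hxQ⟩
  have hk' : x ^ p ^ k = 1 := by
    have := congrArg Subtype.val hk
    simpa only [Subgroup.coe_pow, Subgroup.coe_one] using this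
  have h3 : x ^ Nat.card N = 1 := by
    have e : ((⟨x, hxN⟩ : N) ^ Nat.card N : N) = 1 := pow_card_eq_one'
    have e2 := congrArg Subtype.val e
    simpa only [Subgroup.coe_pow, Subgroup.coe_one] using e2
  have h4 : Nat.Coprime (Nat.card N) (p ^ k) :=
    Nat.Coprime.pow_right k (Nat.coprime_comm.mp ((Nat.Prime.coprime_iff_not_dvd hp).mpr h2))
  have h5 := pow_gcd_eq_one.mpr ⟨h3, hk'⟩
  rwa [h4, pow_one] at h5

end Cfsg.Agent.Lib.Helper2
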