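import Mathlib
import Cfsg.Agent.Lib.Helper11.ZJ
import Cfsg.Agent.Lib.Helper11.NormStable

/-!
# Thompson factorization `G = N_G(J(P)) C_G(Ω₁(Z(P)))`

Generic form: `G` with `C_G(O_p(G)) ≤ O_p(G)` and no non-commuting unipotent pairs in
`SL₂`-images (`Helper11.NoSL2`), `p` odd.
-/

set_option autoImplicit false
open scoped commutatorElement

namespace Cfsg.Agent.Lib.Helper2.TF

open Cfsg.Agent.Lib.Helper11

universe u

/-- The elements of order dividing `p` in the centre of `P`. -/
def omegaZ {G : Type u} [Group G] (p : ℕ) (P : Subgroup G) : Set G :=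
  {x : G | x ∈ P ∧ (∀ y ∈ P, x * y = y * x) ∧ x ^ p = 1}

/-- `Ω₁(Z(O_p(G)))` as a subgroup of `G`. -/
def omegaZCore {G : Type u} [Group G] (p : ℕ) : Subgroup G where
  carrier := {x : G | x ∈ Cfsg.pCore p G ∧ x ∈ Subgroup.centralizer (Cfsg.pCore p G : Set G) ∧
    x ^ p = 1}
  mul_mem' := by
    rintro a b ⟨ha, hac, hap⟩ ⟨hb, hbc, hbp⟩
    refine ⟨Subgroup.mul_mem _ ha hb, Subgroup.mul_mem _ hac hbc, ?_⟩
    have hcomm : Commute a b := (Subgroup.mem_centralizer_iff.mp hbc a ha)
    rw [hcomm.mul_pow, hap, hbp, one_mul]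
  one_mem' := ⟨Subgroup.one_mem _, Subgroup.one_mem _, one_pow _⟩
  inv_mem' := by
    rintro a ⟨ha, hac, hap⟩
    exact ⟨Subgroup.inv_mem _ ha, Subgroup.inv_mem _ hac, by rw [inv_pow, hap, inv_one]⟩

theorem mem_omegaZCore {G : Type u} [Group G] (p : ℕ) (x : G) :
    x ∈ omegaZCore (G := G) p ↔ x ∈ Cfsg.pCore p G ∧
      x ∈ Subgroup.centralizer (Cfsg.pCore p G : Set G) ∧ x ^ p = 1 := Iff.rfl

theorem omegaZCore_normal {G : Type u} [Group G] (p : ℕ) : (omegaZCore (G := G) p).Normal := by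
  have := pCore_normal' p G
  constructor
  intro x hx g
  obtain ⟨h1, h2, h3⟩ := hx
  refine ⟨(pCore_normal' p G).conj_mem x h1 g,
    (Subgroup.normal_centralizer (H := Cfsg.pCore p G)).conj_mem x h2 g, ?_⟩
  rw [conj_pow, h3, mul_one, mul_inv_cancel]

theorem omegaZCore_comm {G : Type u} [Group G] (p : ℕ) {a b : G}
    (ha : a ∈ omegaZCore (G := G) p) (hb : b ∈ omegaZCore (G := G) p) : a * b = b * a :=
  (Subgroup.mem_centralizer_iff.mp hb.2.1 a ha.1)

theorem pCore_le_sylow {G : Type u} [Group G] [Finite G] {p : ℕ} [Fact p.Prime] (P : Sylow p G) :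
    Cfsg.pCore p G ≤ (P : Subgroup G) := by
  have := pCore_normal' p G
  exact (pCore_isPGroup' p G).le_sylow_of_normal _

/-- The normal closure `V` of `Ω₁(Z(P))`. -/
def vOf {G : Type u} [Group G] (p : ℕ) (P : Subgroup G) : Subgroup G :=
  Subgroup.normalClosure (omegaZ p P)

theorem vOf_normal {G : Type u} [Group G] (p : ℕ) (P : Subgroup G) : (vOf p P).Normal :=
  Subgroup.normalClosure_normal

theorem omegaZ_subset_vOf {G : Type u} [Group G] (p : ℕ) (P : Subgroup G) :
    omegaZ p P ⊆ (vOf p P : Set G) := Subgroup.subset_normalClosure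

theorem vOf_le_omegaZCore {G : Type u} [Group G] [Finite G] {p : ℕ} [Fact p.Prime]
    (hc : Subgroup.centralizer (Cfsg.pCore p G : Set G) ≤ Cfsg.pCore p G) (P : Sylow p G) :
    vOf p (P : Subgroup G) ≤ omegaZCore (G := G) p := by
  have := omegaZCore_normal (G := G) p
  apply Subgroup.normalClosure_le_normal
  rintro x ⟨hxP, hxc, hxp⟩
  have h1 : x ∈ Subgroup.centralizer (Cfsg.pCore p G : Set G) := by
    rw [Subgroup.mem_centralizer_iff]
    intro y hy
    exact (hxc y (pCore_le_sylow P hy)).symm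
  exact ⟨hc h1, h1, hxp⟩

/-- `O_p(G / C_G(V)) = 1`. -/
theorem pCore_quotient_centralizer_vOf {G : Type u} [Group G] [Finite G] {p : ℕ} [Fact p.Prime]
    (P : Sylow p G) :
    have := vOf_normal p (P : Subgroup G)
    Cfsg.pCore p (G ⧸ Subgroup.centralizer (vOf p (P : Subgroup G) : Set G)) = ⊥ := by
  have hVn := vOf_normal p (P : Subgroup G)
  set V := vOf p (P : Subgroup G) with hV
  set C := Subgroup.centralizer (V : Set G) with hC
  rw [eq_bot_iff]
  -- the preimage `T` of the `p`-core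
  set T : Subgroup G := (Cfsg.pCore p (G ⧸ C)).comap (QuotientGroup.mk' C) with hT
  have hTn : T.Normal := by
    have := pCore_normal' p (G ⧸ C)
    exact Subgroup.Normal.comap this _
  have hTcent : omegaZ p (P : Subgroup G) ⊆ (Subgroup.centralizer (T : Set G) : Set G) := by
    rintro z ⟨hzP, hzc, hzp⟩
    show z ∈ Subgroup.centralizer (T : Set G)
    rw [Subgroup.mem_centralizer_iff]
    intro t ht
    have ht' : (QuotientGroup.mk t : G ⧸ C) ∈ Cfsg.pCore p (G ⧸ C) := ht
    obtain ⟨s, hs, hst⟩ := exists_mem_sylow_mk_eq P C ht'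
    have h1 : s⁻¹ * t ∈ C := QuotientGroup.eq.mp hst
    have hz : z ∈ V := omegaZ_subset_vOf p _ ⟨hzP, hzc, hzp⟩
    have h2 : z * (s⁻¹ * t) = (s⁻¹ * t) * z := Subgroup.mem_centralizer_iff.mp h1 z hz
    have h3 : z * s = s * z := hzc s hs
    have h4 : t = s * (s⁻¹ * t) := by group
    rw [h4]
    calc s * (s⁻¹ * t) * z = s * ((s⁻¹ * t) * z) := by group
      _ = s * (z * (s⁻¹ * t)) := by rw [h2]
      _ = (s * z) * (s⁻¹ * t) := by group
      _ = (z * s) * (s⁻¹ * t) := by rw [h3]
      _ = z * (s * (s⁻¹ * t)) := by group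
  have hVT : V ≤ Subgroup.centralizer (T : Set G) := by
    have : (Subgroup.centralizer (T : Set G)).Normal := Subgroup.normal_centralizer
    exact Subgroup.normalClosure_le_normal hTcent
  have hTC : T ≤ C := Subgroup.le_centralizer_iff.mp hVT
  intro x hx
  obtain ⟨t, rfl⟩ := QuotientGroup.mk_surjective x
  rw [Subgroup.mem_bot]
  exact (QuotientGroup.eq_one_iff t).mpr (hTC hx)

/-- Under `p`-stability (via `NoSL2`), every elementary abelian subgroup of `P` of largest order
centralizes `V`. -/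
theorem maxElemAbIn_le_centralizer_vOf {G : Type u} [Group G] [Finite G] {p : ℕ} [Fact p.Prime]
    (hp : p ≠ 2) (hc : Subgroup.centralizer (Cfsg.pCore p G : Set G) ≤ Cfsg.pCore p G)
    (hns : NoSL2 p (⊤ : Subgroup G)) (P : Sylow p G) :
    ∀ A ∈ maxElemAbIn p (P : Subgroup G),
      A ≤ Subgroup.centralizer (vOf p (P : Subgroup G) : Set G) := by
  have hVn := vOf_normal p (P : Subgroup G)
  set V := vOf p (P : Subgroup G) with hV
  set C := Subgroup.centralizer (V : Set G) with hC
  have hVU : V ≤ omegaZCore (G := G) p := vOf_le_omegaZCore hc P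
  have hVP : V ≤ (P : Subgroup G) := fun v hv => pCore_le_sylow P (hVU hv).1
  have hVcomm : ∀ a ∈ V, ∀ b ∈ V, a * b = b * a := fun a ha b hb =>
    omegaZCore_comm p (hVU ha) (hVU hb)
  have hVpow : ∀ a ∈ V, a ^ p = 1 := fun a ha => (hVU ha).2.2
  have hVpg : IsPGroup p V := by
    intro v
    refine ⟨1, ?_⟩
    rw [pow_one]
    exact Subtype.ext (by simpa using hVpow v v.2)
  have hVV : ⁅V, V⁆ = ⊥ := by
    rw [eq_bot_iff, Subgroup.commutator_le]
    intro a ha b hb
    rw [Subgroup.mem_bot, commutatorElement_eq_one_iff_commute]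
    exact hVcomm a ha b hb
  have hcore := pCore_quotient_centralizer_vOf P
  have hst : Cfsg.IsPStableOn p V := isPStableOn_pGroup_of_noSL2 hp hns V hVpg
  by_contra hcon
  push Not at hcon
  obtain ⟨U, hU, hUC⟩ := hcon
  have hnVU : ¬ V ≤ U := by
    intro hle
    apply hUC
    intro u hu
    show u ∈ Subgroup.centralizer (V : Set G)
    rw [Subgroup.mem_centralizer_iff]
    intro v hv
    have := hU.2.1.1
    exact setLike_mul_comm (hle hv) hu
  obtain ⟨A, hA, hnVA, hVNA⟩ := repl_ambient hp (P : Subgroup G) P.isPGroup'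
    (maxElemAbIn p (P : Subgroup G)) (fun A hA => hA.2.1.1)
    (fun A hA A' hA'S hcard hcomm hexp =>
      ⟨hA'S, (replClass_elemAb p G).repl A hA.2.1 A' hcomm hexp,
        fun B hB hΦB => (hA.2.2 B hB hΦB).trans_eq hcard.symm⟩)
    V hVP (by rw [Subgroup.normalizer_eq_top]; exact le_top)
    ⟨U, hU, hU.1, by rw [hVV]; exact bot_le, hnVU⟩
  have hAcomm := hA.2.1.1
  have hAC : A ≤ C := by
    intro a ha
    have hquad : ⁅⁅V, Subgroup.zpowers a⁆, Subgroup.zpowers a⁆ = ⊥ := by
      have h1 : ⁅V, Subgroup.zpowers a⁆ ≤ A := by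
        rw [Subgroup.commutator_le]
        intro b hb x hx
        have hx' : x ∈ A := (Subgroup.zpowers_le.mpr ha) hx
        have hbN := hVNA hb
        rw [commutatorElement_def]
        exact A.mul_mem ((Subgroup.mem_normalizer_iff.mp hbN x).mp hx') (A.inv_mem hx')
      rw [eq_bot_iff, Subgroup.commutator_le]
      intro b hb x hx
      have hx' : x ∈ A := (Subgroup.zpowers_le.mpr ha) hx
      rw [Subgroup.mem_bot, commutatorElement_eq_one_iff_commute]
      exact setLike_mul_comm (h1 hb) hx'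
    have h2 := hst a hquad
    rw [hcore, Subgroup.mem_bot] at h2
    exact (QuotientGroup.eq_one_iff a).mp h2
  apply hnVA
  intro v hv
  have hAtop : A ∈ Cfsg.maxElementaryAbelianSubgroups p G := by
    rw [← maxElemAbIn_top]
    exact maxElemAbIn_sylow_subset P hA
  refine mem_of_mem_maxElemAb hAtop ?_ (hVpow v hv)
  rw [Subgroup.mem_centralizer_iff]
  intro a ha
  exact (Subgroup.mem_centralizer_iff.mp (hAC ha) v hv).symm

/-- **Thompson factorization**: `G = N_G(J(P)) C_G(Ω₁(Z(P)))` for `p` odd, `C_G(O_p(G)) ≤ O_p(G)`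
and no `SL₂`-pairs. -/
theorem thompson_factorization {G : Type u} [Group G] [Finite G] {p : ℕ} [Fact p.Prime]
    (hp : p ≠ 2) (hc : Subgroup.centralizer (Cfsg.pCore p G : Set G) ≤ Cfsg.pCore p G)
    (hns : NoSL2 p (⊤ : Subgroup G)) (P : Sylow p G) (g : G) :
    ∃ a ∈ Subgroup.normalizer (Cfsg.thompsonSubgroupOf p (P : Subgroup G) : Set G),
      ∃ c ∈ Subgroup.centralizer (omegaZ p (P : Subgroup G)), g = a * c := by
  have hVn := vOf_normal p (P : Subgroup G)
  set V := vOf p (P : Subgroup G) with hV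
  set C := Subgroup.centralizer (V : Set G) with hC
  have hCn : C.Normal := Subgroup.normal_centralizer
  have hJC : Cfsg.thompsonSubgroupOf p (P : Subgroup G) ≤ C := by
    rw [thompsonSubgroupOf_eq, sSup_le_iff]
    exact maxElemAbIn_le_centralizer_vOf hp hc hns P
  have hJP : Cfsg.thompsonSubgroupOf p (P : Subgroup G) ≤ (P : Subgroup G) :=
    thompsonSubgroupOf_le p _
  have hJeq : Cfsg.thompsonSubgroupOf p ((P : Subgroup G) ⊓ C) =
      Cfsg.thompsonSubgroupOf p (P : Subgroup G) :=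
    thompsonSubgroupOf_eq_of_le inf_le_left (le_inf hJP hJC)
  have hfr := frattini_inf P C
  have hg : g ∈ Subgroup.normalizer ((((P : Subgroup G) ⊓ C : Subgroup G)) : Set G) ⊔ C := by
    rw [hfr]; trivial
  obtain ⟨a, ha, c, hc', rfl⟩ := Subgroup.mem_sup_of_normal_right.mp hg
  refine ⟨a, ?_, c, ?_, rfl⟩
  · have := normalizer_le_normalizer_thompsonSubgroupOf p ((P : Subgroup G) ⊓ C) ha
    rwa [hJeq] at this
  · exact Subgroup.centralizer_le (omegaZ_subset_vOf p _) hc'

end Cfsg.Agent.Lib.Helper2.TF
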