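import Mathlib
import Cfsg.Agent.Lib.Helper2.ThompsonFact
import Cfsg.Agent.Lib.Helper2.OffS4
import Cfsg.Agent.Lib.Helper11.PSolvCoprime
import Cfsg.Agent.Lib.Helper11.StableW
import Cfsg.Agent.Lib.Helper79.SolvPSolv
import Cfsg.Agent.Lib.Helper34.CoreAux
import Cfsg.Agent.Lib.Helper48.Cores

/-!
# Thompson factorization for `p = 2` in solvable `S₄`-free groups, and the class-two case

* `maxElemAbIn_le_centralizer_vOf_two`: `G` solvable, `S₄`-free, `C_G(O_2(G)) ≤ O_2(G)`: every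
  elementary abelian subgroup of largest order of a Sylow `2`-subgroup `S` centralizes the normal
  closure `V` of `Ω₁(Z(S))`.
* `maxElemAbIn_le_pCore_two`: if moreover `S` has class at most two, they lie in `O_2(G)`.
* `thompsonSubgroupOf_two_normal`: hence `J_e(S)` is normal in `G`.
-/

set_option autoImplicit false
open scoped commutatorElement

namespace Cfsg.Agent.Lib.Helper2.TF

open Cfsg.Agent.Lib.Helper11

universe u

theorem fact_prime_two : Fact (Nat.Prime 2) := ⟨Nat.prime_two⟩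

/-- `V` is elementary abelian. -/
theorem vOf_elemAb {G : Type u} [Group G] [Finite G] {p : ℕ} [Fact p.Prime]
    (hc : Subgroup.centralizer (Cfsg.pCore p G : Set G) ≤ Cfsg.pCore p G) (P : Sylow p G) :
    Cfsg.IsElementaryAbelian p (vOf p (P : Subgroup G)) := by
  have hVU := vOf_le_omegaZCore hc P
  exact ⟨IsMulCommutative.of_setLike_mul_comm
    (fun a ha b hb => omegaZCore_comm p (hVU ha) (hVU hb)), fun a ha => (hVU ha).2.2⟩

/-- The join of a normal elementary abelian subgroup with an elementary abelian subgroup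
centralizing it is elementary abelian. -/
theorem elemAb_sup {G : Type u} [Group G] {p : ℕ} (V B : Subgroup G) [V.Normal]
    (hV : Cfsg.IsElementaryAbelian p V) (hB : Cfsg.IsElementaryAbelian p B)
    (hVB : ∀ v ∈ V, ∀ b ∈ B, v * b = b * v) : Cfsg.IsElementaryAbelian p (V ⊔ B) := by
  have hVc := hV.1
  have hBc := hB.1
  have hmem : ∀ x ∈ V ⊔ B, ∃ v ∈ V, ∃ b ∈ B, v * b = x := fun x hx =>
    Subgroup.mem_sup_of_normal_left.mp hx
  refine ⟨IsMulCommutative.of_setLike_mul_comm ?_, ?_⟩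
  · intro x hx y hy
    obtain ⟨v, hv, b, hb, rfl⟩ := hmem x hx
    obtain ⟨v', hv', b', hb', rfl⟩ := hmem y hy
    have h1 : v * v' = v' * v := setLike_mul_comm hv hv'
    have h2 : b * b' = b' * b := setLike_mul_comm hb hb'
    have h3 := hVB v hv b' hb'
    have h4 := hVB v' hv' b hb
    calc v * b * (v' * b') = v * (b * v') * b' := by group
      _ = v * (v' * b) * b' := by rw [h4]
      _ = (v * v') * (b * b') := by group
      _ = (v' * v) * (b' * b) := by rw [h1, h2]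
      _ = v' * (v * b') * b := by group
      _ = v' * (b' * v) * b := by rw [h3]
      _ = v' * b' * (v * b) := by group
  · intro x hx
    obtain ⟨v, hv, b, hb, rfl⟩ := hmem x hx
    have hcomm : Commute v b := hVB v hv b hb
    rw [hcomm.mul_pow, hV.2 v hv, hB.2 b hb, one_mul]

/-- No offenders: in a solvable `S₄`-free group, an elementary abelian `2`-subgroup of largest
order of a Sylow `2`-subgroup `S` centralizes every normal elementary abelian `2`-subgroup `V ≤ S`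
with `O_2(G / C_G(V)) = 1`. -/
theorem maxElemAbIn_le_centralizer_two {G : Type u} [Group G] [Finite G]
    (hsol : Group.IsSolvable G) (hS4 : ¬ Cfsg.Involves (Equiv.Perm (Fin 4)) G) (S : Sylow 2 G)
    (V : Subgroup G) [hVn : V.Normal] (hVe : Cfsg.IsElementaryAbelian 2 V)
    (hVS : V ≤ (S : Subgroup G))
    (hcore : Cfsg.pCore 2 (G ⧸ Subgroup.centralizer (V : Set G)) = ⊥) :
    ∀ A ∈ maxElemAbIn 2 (S : Subgroup G), A ≤ Subgroup.centralizer (V : Set G) := by
  have h2f := fact_prime_two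
  set C : Subgroup G := Subgroup.centralizer (V : Set G) with hCdef
  have hCn : C.Normal := Subgroup.normal_centralizer
  have hcore' : Cfsg.pCore 2 (G ⧸ C) = ⊥ := hcore
  have hVC : V ≤ C := by
    rw [hCdef]
    intro v hv
    rw [Subgroup.mem_centralizer_iff]
    intro w hw
    have := hVe.1
    exact setLike_mul_comm hw hv
  -- the preimage of `O_{2'}(G / C)`
  have hOn : (Cfsg.pPrimeCore 2 (G ⧸ C)).Normal := Cfsg.Agent.Lib.Helper48.pPrimeCore_normal' 2 _
  obtain ⟨K, hKdef⟩ : ∃ K : Subgroup G,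
      K = (Cfsg.pPrimeCore 2 (G ⧸ C)).comap (QuotientGroup.mk' C) := ⟨_, rfl⟩
  have hKn : K.Normal := by rw [hKdef]; exact Subgroup.Normal.comap hOn _
  have hKmap : K.map (QuotientGroup.mk' C) = Cfsg.pPrimeCore 2 (G ⧸ C) := by
    rw [hKdef]
    exact Subgroup.map_comap_eq_self_of_surjective (QuotientGroup.mk'_surjective C) _
  have hKodd : Odd (C.relIndex K) := by
    have h1 := Subgroup.relIndex_ker (K := K) (QuotientGroup.mk' C)
    rw [QuotientGroup.ker_mk'] at h1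
    rw [h1, hKmap]
    exact Nat.coprime_two_right.mp
      (Cfsg.Agent.Lib.Helper34.card_pPrimeCore_coprime 2 (G ⧸ C))
  have hKsol : Group.IsSolvable K := inferInstance
  intro A hA
  by_contra hAC
  have hAe : Cfsg.IsElementaryAbelian 2 A := hA.2.1
  have hAc := hAe.1
  have hfaith : ∀ a ∈ A, (∀ k ∈ K, a * k * a⁻¹ * k⁻¹ ∈ C) → a ∈ C := by
    intro a ha hk
    have h2sol : Cfsg.IsPSolvable 2 (G ⧸ C) :=
      Cfsg.Agent.Lib.Helper79.isPSolvable_of_isSolvable 2 inferInstance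
    have hx : (QuotientGroup.mk a : G ⧸ C) ^ 2 ^ 1 = 1 := by
      rw [pow_one, ← QuotientGroup.mk_pow, hAe.2 a ha]
      rfl
    have hcent : (QuotientGroup.mk a : G ⧸ C) ∈
        Subgroup.centralizer (Cfsg.pPrimeCore 2 (G ⧸ C) : Set (G ⧸ C)) := by
      rw [Subgroup.mem_centralizer_iff]
      intro y hy
      obtain ⟨k, rfl⟩ := QuotientGroup.mk_surjective y
      have hkK : k ∈ K := by rw [hKdef]; exact hy
      have h1 := hk k hkK
      have h2 : ((a * k * a⁻¹ * k⁻¹ : G) : G ⧸ C) = 1 := (QuotientGroup.eq_one_iff _).mpr h1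
      have h3 : (QuotientGroup.mk a : G ⧸ C) * QuotientGroup.mk k *
          (QuotientGroup.mk a)⁻¹ * (QuotientGroup.mk k)⁻¹ = 1 := by
        rw [← h2]; rfl
      have h4 := congrArg (fun u => u * (QuotientGroup.mk k : G ⧸ C) * QuotientGroup.mk a) h3
      simp only [one_mul] at h4
      rw [← h4]; group
    have h1 := eq_one_of_mem_centralizer_pPrimeCore h2sol hcore' _ hx hcent
    exact (QuotientGroup.eq_one_iff a).mp h1
  have hoff : Nat.card V * Nat.card ↥(A ⊓ C) ≤ Nat.card A * Nat.card ↥(V ⊓ A) := by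
    have hBe : Cfsg.IsElementaryAbelian 2 (V ⊔ (A ⊓ C)) := by
      apply elemAb_sup V (A ⊓ C) hVe (elemAb_mono inf_le_left hAe)
      intro v hv b hb
      have hb' := hb.2
      rw [hCdef] at hb'
      exact Subgroup.mem_centralizer_iff.mp hb' v hv
    have hBS : V ⊔ (A ⊓ C) ≤ (S : Subgroup G) := sup_le hVS (inf_le_left.trans hA.1)
    have hcard := hA.2.2 _ hBS hBe
    have h1 := Cfsg.Agent.Lib.Helper34.card_sup_mul_card_inf (A ⊓ C) V
    have h2 : V ⊓ (A ⊓ C) = V ⊓ A := by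
      apply le_antisymm
      · exact inf_le_inf_left _ inf_le_left
      · exact le_inf inf_le_left (le_inf inf_le_right (inf_le_left.trans hVC))
    rw [h2, sup_comm] at h1
    calc Nat.card V * Nat.card ↥(A ⊓ C) = Nat.card ↥(V ⊔ (A ⊓ C)) * Nat.card ↥(V ⊓ A) := h1.symm
      _ ≤ Nat.card A * Nat.card ↥(V ⊓ A) := Nat.mul_le_mul_right _ hcard
  exact hS4 (Cfsg.Agent.Lib.Helper2.Off.involves_S4_of_offender V K A hVe hKodd hKsol hAe hfaith
    hAC hoff)

/-- `J_e(S) ≤ C_G(V)` for `p = 2` in solvable `S₄`-free groups with `C_G(O_2(G)) ≤ O_2(G)`,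
`V` the normal closure of `Ω₁(Z(S))`. -/
theorem maxElemAbIn_le_centralizer_vOf_two {G : Type u} [Group G] [Finite G]
    (hsol : Group.IsSolvable G) (hS4 : ¬ Cfsg.Involves (Equiv.Perm (Fin 4)) G)
    (hc : Subgroup.centralizer (Cfsg.pCore 2 G : Set G) ≤ Cfsg.pCore 2 G) (S : Sylow 2 G) :
    ∀ A ∈ maxElemAbIn 2 (S : Subgroup G),
      A ≤ Subgroup.centralizer (vOf 2 (S : Subgroup G) : Set G) := by
  have h2f := fact_prime_two
  have hVn := vOf_normal 2 (S : Subgroup G)
  have hVU : vOf 2 (S : Subgroup G) ≤ omegaZCore (G := G) 2 := vOf_le_omegaZCore hc S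
  exact maxElemAbIn_le_centralizer_two hsol hS4 S (vOf 2 (S : Subgroup G)) (vOf_elemAb hc S)
    (fun v hv => pCore_le_sylow S (hVU hv).1) (pCore_quotient_centralizer_vOf S)

/-- In a Sylow `2`-subgroup `S` of class at most two, commutators of elements of `S` with
involutions of `S` lie in `Ω₁(Z(S))`. -/
theorem commutator_mem_omegaZ_of_class_two {G : Type u} [Group G] (S : Subgroup G)
    (hcl : Subgroup.lowerCentralSeries S 2 = ⊥) {h a : G} (hh : h ∈ S) (ha : a ∈ S)
    (haa : a * a = 1) : ⁅h, a⁆ ∈ omegaZ 2 S := by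
  have hcl' : ⁅⁅S, S⁆, S⁆ = ⊥ := hcl
  have hcS : ⁅h, a⁆ ∈ ⁅S, S⁆ := Subgroup.commutator_mem_commutator hh ha
  have hcentral : ∀ y ∈ S, ⁅h, a⁆ * y = y * ⁅h, a⁆ := by
    intro y hy
    have h1 : ⁅⁅h, a⁆, y⁆ ∈ ⁅⁅S, S⁆, S⁆ := Subgroup.commutator_mem_commutator hcS hy
    rw [hcl', Subgroup.mem_bot] at h1
    exact commutatorElement_eq_one_iff_commute.mp h1
  have hS : ⁅h, a⁆ ∈ S := by
    rw [commutatorElement_def]
    exact S.mul_mem (S.mul_mem (S.mul_mem hh ha) (S.inv_mem hh)) (S.inv_mem ha)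
  refine ⟨hS, hcentral, ?_⟩
  have h1 := hcentral a⁻¹ (S.inv_mem ha)
  have hainv : a⁻¹ = a := inv_eq_of_mul_eq_one_left haa
  rw [pow_two]
  calc ⁅h, a⁆ * ⁅h, a⁆ = (h * a * h⁻¹) * (a⁻¹ * ⁅h, a⁆) := by
        rw [commutatorElement_def]; group
    _ = (h * a * h⁻¹) * (⁅h, a⁆ * a⁻¹) := by rw [h1]
    _ = h * (a * a) * h⁻¹ * (a⁻¹ * a⁻¹) := by rw [commutatorElement_def]; group
    _ = 1 := by rw [haa, hainv, haa]; group

/-- A normal subgroup centralizing the elementary abelian normal `2`-subgroup `V` and the section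
`O_2(G) / V` is a `2`-group, hence lies in `O_2(G)` (when `C_G(O_2(G)) ≤ O_2(G)`). -/
theorem stab_le_pCore_two {G : Type u} [Group G] [Finite G]
    (hc : Subgroup.centralizer (Cfsg.pCore 2 G : Set G) ≤ Cfsg.pCore 2 G)
    (V : Subgroup G) [hVn : V.Normal] (hVe : Cfsg.IsElementaryAbelian 2 V) :
    Subgroup.centralizer (V : Set G) ⊓ Cfsg.sectionKernel (Cfsg.pCore 2 G) V ≤ Cfsg.pCore 2 G := by
  have h2f := fact_prime_two
  have hHn := pCore_normal' 2 G
  have hCn : (Subgroup.centralizer (V : Set G)).Normal := Subgroup.normal_centralizer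
  have hKn : (Cfsg.sectionKernel (Cfsg.pCore 2 G) V).Normal := by
    unfold Cfsg.sectionKernel
    have : ((Cfsg.pCore 2 G).map (QuotientGroup.mk' V)).Normal :=
      hHn.map _ (QuotientGroup.mk'_surjective _)
    infer_instance
  have hTn : (Subgroup.centralizer (V : Set G) ⊓ Cfsg.sectionKernel (Cfsg.pCore 2 G) V).Normal :=
    Subgroup.normal_inf_normal _ _
  apply le_pCore' hTn
  rintro ⟨x, hx⟩
  obtain ⟨k, m, hm2, hkm⟩ :=
    Nat.exists_eq_pow_mul_and_not_dvd (orderOf_pos x).ne' 2 (by norm_num)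
  have hmodd : Nat.Coprime 2 m := (Nat.Prime.coprime_iff_not_dvd Nat.prime_two).mpr hm2
  refine ⟨k, Subtype.ext ?_⟩
  rw [Subgroup.coe_pow, Subgroup.coe_one]
  have hzm : (x ^ 2 ^ k) ^ m = 1 := by
    rw [← pow_mul, ← hkm]; exact pow_orderOf_eq_one x
  have hzT := Subgroup.pow_mem _ hx (2 ^ k)
  obtain ⟨hzC, hzK⟩ := Subgroup.mem_inf.mp hzT
  -- `z = x ^ 2 ^ k` centralizes `O_2(G)`
  have hzcent : x ^ 2 ^ k ∈ Subgroup.centralizer (Cfsg.pCore 2 G : Set G) := by
    rw [Subgroup.mem_centralizer_iff]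
    intro h hh
    have hv : ⁅h, x ^ 2 ^ k⁆ ∈ V := (mem_sectionKernel_iff _ V _).mp hzK h hh
    have hvz : Commute ⁅h, x ^ 2 ^ k⁆ (x ^ 2 ^ k) := Subgroup.mem_centralizer_iff.mp hzC _ hv
    have h1 : h * x ^ 2 ^ k * h⁻¹ = ⁅h, x ^ 2 ^ k⁆ * x ^ 2 ^ k := by
      rw [commutatorElement_def]; group
    have h2 : (h * x ^ 2 ^ k * h⁻¹) ^ m = 1 := by
      rw [conj_pow, hzm]; group
    rw [h1, hvz.mul_pow, hzm, mul_one] at h2
    have h3 : ⁅h, x ^ 2 ^ k⁆ ^ 2 = 1 := hVe.2 _ hv
    have h4 : orderOf ⁅h, x ^ 2 ^ k⁆ = 1 :=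
      Nat.eq_one_of_dvd_coprimes hmodd (orderOf_dvd_of_pow_eq_one h3) (orderOf_dvd_of_pow_eq_one h2)
    have h5 : ⁅h, x ^ 2 ^ k⁆ = 1 := orderOf_eq_one_iff.mp h4
    exact (commutatorElement_eq_one_iff_commute.mp h5).eq
  have hzH := hc hzcent
  obtain ⟨i, hi⟩ := (pCore_isPGroup' 2 G) ⟨_, hzH⟩
  have hi' : (x ^ 2 ^ k) ^ 2 ^ i = 1 := by
    have := congrArg Subtype.val hi
    simpa using this
  have h6 : orderOf (x ^ 2 ^ k) = 1 :=
    Nat.eq_one_of_dvd_coprimes (Nat.Coprime.pow_left i hmodd) (orderOf_dvd_of_pow_eq_one hi')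
      (orderOf_dvd_of_pow_eq_one hzm)
  exact orderOf_eq_one_iff.mp h6

/-- Class at most two: the elementary abelian subgroups of largest order of `S` lie in `O_2(G)`
(`G` solvable, `S₄`-free, `C_G(O_2(G)) ≤ O_2(G)`). -/
theorem maxElemAbIn_le_pCore_two {G : Type u} [Group G] [Finite G]
    (hsol : Group.IsSolvable G) (hS4 : ¬ Cfsg.Involves (Equiv.Perm (Fin 4)) G)
    (hc : Subgroup.centralizer (Cfsg.pCore 2 G : Set G) ≤ Cfsg.pCore 2 G) (S : Sylow 2 G)
    (hcl : Subgroup.lowerCentralSeries (S : Subgroup G) 2 = ⊥) :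
    ∀ A ∈ maxElemAbIn 2 (S : Subgroup G), A ≤ Cfsg.pCore 2 G := by
  have h2f := fact_prime_two
  have hVn := vOf_normal 2 (S : Subgroup G)
  have hVe := vOf_elemAb hc S
  intro A hA
  refine le_trans ?_ (stab_le_pCore_two hc (vOf 2 (S : Subgroup G)) hVe)
  refine le_inf (maxElemAbIn_le_centralizer_vOf_two hsol hS4 hc S A hA) ?_
  intro a ha
  rw [mem_sectionKernel_iff]
  intro h hh
  apply omegaZ_subset_vOf
  have haa : a * a = 1 := by rw [← pow_two]; exact hA.2.1.2 a ha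
  exact commutator_mem_omegaZ_of_class_two _ hcl (pCore_le_sylow S hh) (hA.1 ha) haa

/-- `J_e(S)` is normal in a solvable `S₄`-free group with `C_G(O_2(G)) ≤ O_2(G)` whose Sylow
`2`-subgroup `S` has class at most two. -/
theorem thompsonSubgroupOf_two_normal {G : Type u} [Group G] [Finite G]
    (hsol : Group.IsSolvable G) (hS4 : ¬ Cfsg.Involves (Equiv.Perm (Fin 4)) G)
    (hc : Subgroup.centralizer (Cfsg.pCore 2 G : Set G) ≤ Cfsg.pCore 2 G) (S : Sylow 2 G)
    (hcl : Subgroup.lowerCentralSeries (S : Subgroup G) 2 = ⊥) :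
    (Cfsg.thompsonSubgroupOf 2 (S : Subgroup G)).Normal := by
  have h2f := fact_prime_two
  have hHn := pCore_normal' 2 G
  have hJH : Cfsg.thompsonSubgroupOf 2 (S : Subgroup G) ≤ Cfsg.pCore 2 G := by
    rw [thompsonSubgroupOf_eq, sSup_le_iff]
    exact maxElemAbIn_le_pCore_two hsol hS4 hc S hcl
  have hJeq := thompsonSubgroupOf_eq_of_le (pCore_le_sylow S) hJH
  have h1 := normalizer_le_normalizer_thompsonSubgroupOf 2 (Cfsg.pCore 2 G)
  rw [hJeq, Subgroup.normalizer_eq_top] at h1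
  exact Subgroup.normalizer_eq_top_iff.mp (top_le_iff.mp h1)

/-! ### Transport along a homomorphism injective on `P` -/

theorem maxElemAbIn_map_of_inf_ker {G G' : Type u} [Group G] [Group G'] (p : ℕ) (f : G →* G')
    (P : Subgroup G) (hP : P ⊓ f.ker = ⊥) :
    maxElemAbIn p (P.map f) = Subgroup.map f '' maxElemAbIn p P := by
  have hker : ∀ B : Subgroup G, B ≤ P → B ⊓ f.ker = ⊥ := fun B hB =>
    le_bot_iff.mp (hP ▸ inf_le_inf_right _ hB)
  have hinjP : ∀ x ∈ P, ∀ y ∈ P, f x = f y → x = y := by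
    intro x hx y hy hxy
    have h0 : x * y⁻¹ ∈ f.ker := by
      rw [MonoidHom.mem_ker, map_mul, map_inv, hxy, mul_inv_cancel]
    have h1 : x * y⁻¹ ∈ P ⊓ f.ker := ⟨P.mul_mem hx (P.inv_mem hy), h0⟩
    rw [hP, Subgroup.mem_bot] at h1
    exact mul_inv_eq_one.mp h1
  have hcard : ∀ B : Subgroup G, B ≤ P → Nat.card (B.map f) = Nat.card B := by
    intro B hB
    have hinj : Function.Injective (f.comp B.subtype) := by
      intro x y hxy
      exact Subtype.ext (hinjP x (hB x.2) y (hB y.2) hxy)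
    have h1 : B.map f = (f.comp B.subtype).range := by
      rw [MonoidHom.range_eq_map, ← Subgroup.map_map, ← MonoidHom.range_eq_map,
        Subgroup.range_subtype]
    rw [h1]
    exact (Nat.card_congr (MonoidHom.ofInjective hinj).toEquiv).symm
  have hpull : ∀ B' : Subgroup G', B' ≤ P.map f → (B'.comap f ⊓ P).map f = B' := by
    intro B' hB'
    apply le_antisymm
    · rintro _ ⟨x, hx, rfl⟩
      exact hx.1
    · intro y hy
      obtain ⟨x, hx, rfl⟩ := hB' hy
      exact ⟨x, ⟨hy, hx⟩, rfl⟩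
  have hpulle : ∀ B' : Subgroup G', Cfsg.IsElementaryAbelian p B' →
      Cfsg.IsElementaryAbelian p (B'.comap f ⊓ P) := by
    intro B' hB'
    have := hB'.1
    refine ⟨IsMulCommutative.of_setLike_mul_comm ?_, ?_⟩
    · intro x hx y hy
      apply hinjP _ (P.mul_mem hx.2 hy.2) _ (P.mul_mem hy.2 hx.2)
      rw [map_mul, map_mul]
      exact setLike_mul_comm (s := B') hx.1 hy.1
    · intro x hx
      apply hinjP _ (P.pow_mem hx.2 p) _ P.one_mem
      rw [map_pow, map_one]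
      exact hB'.2 _ hx.1
  ext A'
  constructor
  · rintro ⟨hA'P, hA'e, hmax⟩
    refine ⟨A'.comap f ⊓ P, ⟨inf_le_right, hpulle A' hA'e, ?_⟩, hpull A' hA'P⟩
    intro B hB hBe
    have h1 := hmax (B.map f) (Subgroup.map_mono hB) (elemAb_map f hBe)
    rw [hcard B hB] at h1
    rw [← hcard (A'.comap f ⊓ P) inf_le_right, hpull A' hA'P]
    exact h1
  · rintro ⟨A, ⟨hAP, hAe, hmax⟩, rfl⟩
    refine ⟨Subgroup.map_mono hAP, elemAb_map f hAe, ?_⟩
    intro B' hB' hB'e
    have h1 := hmax (B'.comap f ⊓ P) inf_le_right (hpulle B' hB'e)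
    rw [← hcard (B'.comap f ⊓ P) inf_le_right, hpull B' hB', ← hcard A hAP] at h1
    exact h1

theorem thompsonSubgroupOf_map_of_inf_ker {G G' : Type u} [Group G] [Group G'] (p : ℕ)
    (f : G →* G') (P : Subgroup G) (hP : P ⊓ f.ker = ⊥) :
    Cfsg.thompsonSubgroupOf p (P.map f) = (Cfsg.thompsonSubgroupOf p P).map f := by
  rw [thompsonSubgroupOf_eq, thompsonSubgroupOf_eq, maxElemAbIn_map_of_inf_ker p f P hP,
    sSup_image, sSup_eq_iSup, Subgroup.map_iSup]
  congr 1
  ext A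
  rw [Subgroup.map_iSup]

end Cfsg.Agent.Lib.Helper2.TF
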